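import Cfsg.Agent.Lib.Invol.DihedralCount
import Cfsg.Agent.Lib.Invol.Dihedral
import Cfsg.Agent.Lib.Fusion.ThompsonTransfer

/-!
# A simple subgroup of index two whose dihedral overgroup has reflections outside

`P = ⟨σ, τ⟩` is a dihedral Sylow 2-subgroup of order `4h`, `L` a simple normal subgroup of index
two avoiding `σ` and `τ`, and `z = σ ^ h`.
-/

set_option autoImplicit false
set_option maxHeartbeats 400000
set_option linter.style.haveILetI false
set_option linter.unusedSectionVars false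

namespace CfsgLib.FourOnDihedral

open CfsgLib.Invol CfsgLib.Invol.DihPairs

universe u

variable {X : Type u} [Group X] [Finite X]

/-- The standing hypotheses. -/
structure Setting (P : Sylow 2 X) (σ τ : X) (h : ℕ) (L : Subgroup X) : Prop where
  d : DihData P σ τ h
  even : 2 ∣ h
  normal : L.Normal
  index : L.index = 2
  simple : IsSimpleGroup L
  noncomm : ¬ IsMulCommutative L
  hσ : σ ∉ L
  hτ : τ ∉ L

omit [Finite X] in
/-- The orbit of an element under conjugation by a subgroup. -/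
theorem card_orbit_mul (H : Subgroup X) (x : X) :
    Nat.card {y : X // ∃ g ∈ H, g * x * g⁻¹ = y} *
      Nat.card (H ⊓ Subgroup.centralizer ({x} : Set X) : Subgroup X) = Nat.card H := by
  set S := (Subgroup.centralizer ({x} : Set X)).subgroupOf H with hS
  let f : H ⧸ S → {y : X // ∃ g ∈ H, g * x * g⁻¹ = y} :=
    Quotient.lift (fun g : H => ⟨(g : X) * x * (g : X)⁻¹, g, g.2, rfl⟩) (by
      intro a b hab
      have hm := mem_centralizer_singleton_iff'.1
        (Subgroup.mem_subgroupOf.1 (QuotientGroup.leftRel_apply.1 hab))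
      rw [Subgroup.coe_mul, Subgroup.coe_inv] at hm
      apply Subtype.ext
      calc (a : X) * x * (a : X)⁻¹
          = (a : X) * ((a : X)⁻¹ * b * x * ((a : X)⁻¹ * b)⁻¹) * (a : X)⁻¹ := by rw [hm]
        _ = (b : X) * x * (b : X)⁻¹ := by group)
  have hf : Function.Bijective f := by
    refine ⟨fun p q => ?_, ?_⟩
    · induction p using QuotientGroup.induction_on with
      | H a =>
        induction q using QuotientGroup.induction_on with
        | H b =>
          intro h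
          have h' : (a : X) * x * (a : X)⁻¹ = (b : X) * x * (b : X)⁻¹ := congrArg Subtype.val h
          rw [QuotientGroup.eq, hS, Subgroup.mem_subgroupOf, mem_centralizer_singleton_iff',
            Subgroup.coe_mul, Subgroup.coe_inv]
          calc (a : X)⁻¹ * b * x * ((a : X)⁻¹ * b)⁻¹
              = (a : X)⁻¹ * ((b : X) * x * (b : X)⁻¹) * a := by group
            _ = (a : X)⁻¹ * ((a : X) * x * (a : X)⁻¹) * a := by rw [h']
            _ = x := by group
    · rintro ⟨y, g, hg, rfl⟩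
      exact ⟨QuotientGroup.mk ⟨g, hg⟩, rfl⟩
  rw [← Nat.card_eq_of_bijective f hf, ← Subgroup.card_mul_index S, mul_comm (Nat.card S)]
  congr 1
  rw [hS, inf_comm, ← Subgroup.inf_subgroupOf_right]
  exact Nat.card_congr (Subgroup.subgroupOfEquivOfLe inf_le_right).toEquiv.symm

omit [Finite X] in
/-- An involution in a cyclic group is its middle power. -/
theorem eq_middle {x y : X} (hy : y ∈ Subgroup.zpowers x) (hy2 : orderOf y = 2) : y = x ^ (orderOf x / 2) := by
  obtain ⟨k, rfl⟩ := Subgroup.mem_zpowers_iff.1 hy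
  have h1 : (orderOf x : ℤ) ∣ k * 2 := by
    rw [orderOf_dvd_iff_zpow_eq_one, zpow_mul]
    exact_mod_cast orderOf_dvd_iff_pow_eq_one.1 hy2.dvd
  have h2 : ¬ (orderOf x : ℤ) ∣ k := fun hd => by
    rw [orderOf_dvd_iff_zpow_eq_one.1 hd, orderOf_one] at hy2
    exact absurd hy2 (by norm_num)
  obtain ⟨c, hc⟩ := h1
  rcases Int.even_or_odd c with ⟨e, rfl⟩ | ⟨e, rfl⟩
  · exact absurd ⟨e, by linarith⟩ h2
  · obtain ⟨m, hm⟩ : ∃ m, orderOf x = 2 * m := ⟨orderOf x / 2, by
      have : (2 : ℤ) ∣ (orderOf x : ℤ) := ⟨k - (orderOf x : ℤ) * e, by linarith⟩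
      have : 2 ∣ orderOf x := by exact_mod_cast this
      omega⟩
    rw [← zpow_natCast, ← orderOf_dvd_sub_iff_zpow_eq_zpow]
    refine ⟨e, ?_⟩
    rw [hm, Nat.mul_div_cancel_left m two_pos]
    rw [hm] at hc
    push_cast at hc ⊢
    linarith

variable {P : Sylow 2 X} {σ τ : X} {h : ℕ} {L : Subgroup X}

namespace Setting

omit [Finite X] in
theorem mul_mem_iff (S : Setting P σ τ h L) {a b : X} : a * b ∈ L ↔ (a ∈ L ↔ b ∈ L) :=
  Subgroup.mul_mem_iff_of_index_two S.index

theorem pow_mem_iff (S : Setting P σ τ h L) (i : ℕ) : σ ^ i ∈ L ↔ Even i := by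
  induction i with
  | zero => simp
  | succ n ih => rw [pow_succ, S.mul_mem_iff, ih, iff_false_right S.hσ, Nat.even_add_one]

theorem refl_mem_iff (S : Setting P σ τ h L) (i : ℕ) : σ ^ i * τ ∈ L ↔ Odd i := by
  rw [S.mul_mem_iff, S.pow_mem_iff, iff_false_right S.hτ, Nat.not_even_iff_odd]

theorem z_mem (S : Setting P σ τ h L) : σ ^ h ∈ L :=
  (S.pow_mem_iff h).2 (even_iff_two_dvd.2 S.even)

theorem mem_of_odd_order (S : Setting P σ τ h L) {x : X} (hx : Odd (orderOf x)) : x ∈ L := by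
  by_contra hxL
  have key : ∀ n : ℕ, x ^ n ∈ L ↔ Even n := fun n => by
    induction n with
    | zero => simp
    | succ n ih => rw [pow_succ, S.mul_mem_iff, ih, iff_false_right hxL, Nat.even_add_one]
  exact Nat.not_even_iff_odd.2 hx ((key _).1 (by rw [pow_orderOf_eq_one]; exact one_mem L))

theorem core_le_L (S : Setting P σ τ h L) {o : X} (ho : o ∈ core (σ ^ h)) : o ∈ L :=
  S.mem_of_odd_order (Nat.odd_iff.2 (by have := core_odd S.d ho; omega))

end Setting

omit [Finite X] in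
theorem refl_mul_refl (d : DihData P σ τ h) (i j : ℕ) :
    σ ^ i * τ * (σ ^ j * τ) = σ ^ i * (σ ^ j)⁻¹ := by
  have hc := conj_zpow_of_inverts d.inv (j : ℤ)
  rw [zpow_natCast, inv_eq_of_mul_eq_one_right d.sq, zpow_neg, zpow_natCast] at hc
  rw [← hc]; group

theorem rot_invol (d : DihData P σ τ h) {r : X} (hr : r ∈ Subgroup.zpowers σ) (h2 : r * r = 1) :
    r = 1 ∨ r = σ ^ h := by
  by_contra hc
  push Not at hc
  obtain ⟨k, rfl⟩ := Subgroup.mem_zpowers_iff.1 hr
  refine hc.2 ((eq_middle hr (orderOf_eq_two hc.1 h2)).trans ?_)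
  rw [d.ord, Nat.mul_div_cancel_left h two_pos]

/-- Commuting reflections. -/
theorem refl_comm (d : DihData P σ τ h) {i j : ℕ}
    (hc : Commute (σ ^ i * τ) (σ ^ j * τ)) :
    σ ^ j * τ = σ ^ i * τ ∨ σ ^ j * τ = σ ^ h * (σ ^ i * τ) := by
  have hr : σ ^ j * τ * (σ ^ i * τ) ∈ Subgroup.zpowers σ := by
    rw [refl_mul_refl d]
    exact mul_mem (pow_mem (Subgroup.mem_zpowers σ) j)
      (inv_mem (pow_mem (Subgroup.mem_zpowers σ) i))
  have h2 : σ ^ j * τ * (σ ^ i * τ) * (σ ^ j * τ * (σ ^ i * τ)) = 1 := by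
    calc _ = σ ^ j * τ * (σ ^ i * τ * (σ ^ j * τ)) * (σ ^ i * τ) := by group
      _ = σ ^ j * τ * (σ ^ j * τ) * (σ ^ i * τ * (σ ^ i * τ)) := by rw [hc.eq]; group
      _ = 1 := by rw [refl_sq d, refl_sq d, one_mul]
  rcases rot_invol d hr h2 with e | e
  · left
    calc σ ^ j * τ = σ ^ j * τ * (σ ^ i * τ * (σ ^ i * τ)) := by rw [refl_sq d, mul_one]
      _ = σ ^ i * τ := by rw [← mul_assoc, e, one_mul]
  · right
    calc σ ^ j * τ = σ ^ j * τ * (σ ^ i * τ * (σ ^ i * τ)) := by rw [refl_sq d, mul_one]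
      _ = _ := by rw [← mul_assoc, e]

/-- Multiplication in the centraliser of `σ ^ h` respects the Sylow part. -/
theorem mul_decomp (d : DihData P σ τ h) {o o' s s' : X} (ho : o ∈ core (σ ^ h))
    (ho' : o' ∈ core (σ ^ h)) (hs : s ∈ (P : Subgroup X)) :
    ∃ w ∈ core (σ ^ h), o * s * (o' * s') = w * (s * s') :=
  ⟨o * (s * o' * s⁻¹), mul_mem ho (core_conj_mem (comm_J d hs) ho'), by group⟩

theorem pow_decomp (d : DihData P σ τ h) {o s : X} (ho : o ∈ core (σ ^ h))
    (hs : s ∈ (P : Subgroup X)) (n : ℕ) : ∃ w ∈ core (σ ^ h), (o * s) ^ n = w * s ^ n := by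
  induction n with
  | zero => exact ⟨1, one_mem _, by simp⟩
  | succ n ih =>
    obtain ⟨w, hw, e⟩ := ih
    obtain ⟨w', hw', e'⟩ := mul_decomp d (s' := s) hw ho (pow_mem hs n)
    exact ⟨w', hw', by rw [pow_succ, pow_succ, e, e']⟩

/-- Involutions of `C(z)`. -/
theorem invol_cases (d : DihData P σ τ h) {c : X} (hc : c * σ ^ h = σ ^ h * c) (hc1 : c ≠ 1)
    (hc2 : c * c = 1) :
    c = σ ^ h ∨ ∃ o ∈ core (σ ^ h), ∃ i, i < 2 * h ∧ c = o * (σ ^ i * τ) := by
  obtain ⟨o, ho, s, hs, rfl⟩ := exists_decomp d hc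
  obtain ⟨w, hw, e⟩ := mul_decomp d (s' := s) ho ho hs
  have hss : s * s = 1 := (decomp_unique d hw (one_mem _) (mul_mem hs hs) (one_mem _)
    (by rw [← e, hc2, one_mul])).2
  obtain ⟨i, hi, rfl | rfl⟩ := cases d hs
  · left
    have hoo : ∀ y : X, y = 1 ∨ y = σ ^ h → Commute o y → o * y * (o * y) = 1 → o = 1 := by
      rintro y hy hcy h2
      have hy2 : y * y = 1 := by
        rcases hy with rfl | rfl
        · exact mul_one 1
        · exact mul_self_eq_one (orderOf_J d)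
      have e2 : o * o = 1 := by
        calc o * o = o * o * (y * y) := by rw [hy2, mul_one]
          _ = o * y * (o * y) := by
            rw [mul_assoc o y, ← mul_assoc y, ← hcy.eq]; group
          _ = 1 := h2
      by_contra ho1
      exact core_odd d ho ⟨1, by rw [orderOf_eq_two ho1 e2]⟩
    rcases rot_invol d (pow_mem (Subgroup.mem_zpowers σ) i) hss with e | e
    · exfalso
      rw [e] at hc1 hc2
      exact hc1 (by rw [hoo 1 (Or.inl rfl) (Commute.one_right o) hc2, one_mul])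
    · rw [e] at hc2 ⊢
      rw [hoo (σ ^ h) (Or.inr rfl) (Subgroup.mem_centralizer_singleton_iff.1 (core_le _ ho)) hc2,
        one_mul]
  · exact Or.inr ⟨o, ho, i, hi, rfl⟩

theorem refl_part_comm (d : DihData P σ τ h) {o o' : X} {i j : ℕ} (ho : o ∈ core (σ ^ h))
    (ho' : o' ∈ core (σ ^ h))
    (hc : Commute (o * (σ ^ i * τ)) (o' * (σ ^ j * τ))) :
    Commute (σ ^ i * τ) (σ ^ j * τ) := by
  obtain ⟨w, hw, e⟩ := mul_decomp d (s' := σ ^ j * τ) ho ho' (refl_mem d i)
  obtain ⟨w', hw', e'⟩ := mul_decomp d (s' := σ ^ i * τ) ho' ho (refl_mem d j)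
  exact (decomp_unique d hw hw' (mul_mem (refl_mem d i) (refl_mem d j))
    (mul_mem (refl_mem d j) (refl_mem d i)) (e.symm.trans (hc.eq.trans e'))).2

/-- The reflection part of a reflection of `C(z)` lying in `L` has odd index. -/
theorem Setting.part_mem_iff (S : Setting P σ τ h L) {o : X} (ho : o ∈ core (σ ^ h)) (i : ℕ) :
    o * (σ ^ i * τ) ∈ L ↔ Odd i := by
  rw [L.mul_mem_cancel_left (S.core_le_L ho), S.refl_mem_iff]

theorem exists_conj_mem_P (P : Sylow 2 X) {x : X} (hx : x * x = 1) :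
    ∃ g : X, g * x * g⁻¹ ∈ (P : Subgroup X) := by
  have : Fact (Nat.Prime 2) := ⟨Nat.prime_two⟩
  have hp : IsPGroup 2 (Subgroup.zpowers x) := by
    obtain ⟨k, -, hk⟩ := (Nat.dvd_prime_pow Nat.prime_two (m := 1)).1
      (orderOf_dvd_of_pow_eq_one (x := x) (by rw [pow_one, sq, hx]))
    exact IsPGroup.of_card (n := k) (by rw [Nat.card_zpowers, hk])
  obtain ⟨Q, hQ⟩ := hp.exists_le_sylow
  obtain ⟨g, hg⟩ := MulAction.exists_smul_eq X Q P
  refine ⟨g, ?_⟩
  rw [← hg]
  exact Subgroup.smul_mem_pointwise_smul x (MulAut.conj g) (Q : Subgroup X)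
    (hQ (Subgroup.mem_zpowers x))

/-- The involutions of `P`. -/
theorem invol_P (d : DihData P σ τ h) {x : X} (hx : x ∈ (P : Subgroup X)) (h2 : x * x = 1)
    (h1 : x ≠ 1) : x = σ ^ h ∨ ∃ i, i < 2 * h ∧ x = σ ^ i * τ := by
  obtain ⟨i, hi, rfl | rfl⟩ := cases d hx
  · exact Or.inl ((rot_invol d (pow_mem (Subgroup.mem_zpowers σ) i) h2).resolve_left h1)
  · exact Or.inr ⟨i, hi, rfl⟩

namespace Setting

theorem z_comm_tau (S : Setting P σ τ h L) : Commute τ (σ ^ h) := comm_J S.d S.d.hτ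

omit [Finite X] in
theorem tau_ne (S : Setting P σ τ h L) : τ ≠ 1 := fun e => S.hτ (e ▸ one_mem L)

/-- A conjugating element may be taken in `L` when a centralising element lies outside. -/
theorem exists_mem_of_comm (S : Setting P σ τ h L) {x y g : X} (hg : g * x * g⁻¹ = y)
    (hτx : Commute τ x) : ∃ l ∈ L, l * x * l⁻¹ = y := by
  by_cases hgL : g ∈ L
  · exact ⟨g, hgL, hg⟩
  · refine ⟨g * τ, S.mul_mem_iff.2 (iff_of_false hgL S.hτ), ?_⟩
    rw [← hg]
    calc g * τ * x * (g * τ)⁻¹ = g * (τ * x * τ⁻¹) * g⁻¹ := by group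
      _ = _ := by rw [hτx.eq, mul_inv_cancel_right]

theorem card_P_inf (S : Setting P σ τ h L) :
    Nat.card ((P : Subgroup X) ⊓ L : Subgroup X) = 2 * h := by
  have hidx : (L.subgroupOf (P : Subgroup X)).index = 2 := by
    rw [Subgroup.index_eq_two_iff]
    refine ⟨⟨σ, S.d.hσ⟩, fun b => ?_⟩
    simp only [Subgroup.mem_subgroupOf, Subgroup.coe_mul, S.mul_mem_iff, iff_false_right S.hσ]
    exact xor_not_left.2 Iff.rfl
  have h1 := (L.subgroupOf (P : Subgroup X)).card_mul_index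
  rw [hidx, S.d.card] at h1
  have h3 : Nat.card (L.subgroupOf (P : Subgroup X)) =
      Nat.card ((P : Subgroup X) ⊓ L : Subgroup X) := by
    rw [inf_comm, ← Subgroup.inf_subgroupOf_right]
    exact Nat.card_congr (Subgroup.subgroupOfEquivOfLe inf_le_right).toEquiv
  omega

/-- All involutions of `L` are conjugate. -/
theorem one_class (S : Setting P σ τ h L) {x : X} (hx : x ∈ L) (h1 : x ≠ 1) (h2 : x * x = 1) :
    ∃ g ∈ L, g * σ ^ h * g⁻¹ = x := by
  have : Fact (Nat.Prime 2) := ⟨Nat.prime_two⟩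
  haveI := S.normal
  haveI := S.simple
  suffices hs : IsConj (σ * τ) (σ ^ h) by
    obtain ⟨g, hg⟩ := exists_conj_mem_P P h2
    have key : IsConj x (σ ^ h) := by
      rcases invol_P S.d hg (by rw [conj_mul, h2, mul_one, mul_inv_cancel])
        (by rw [Ne, conj_eq_one_iff]; exact h1) with e | ⟨i, -, e⟩
      · exact isConj_iff.2 ⟨g, e⟩
      · obtain ⟨c, rfl⟩ := (S.refl_mem_iff i).1 (e ▸ S.normal.conj_mem x hx g)
        refine (isConj_iff.2 ⟨g, e⟩).trans (IsConj.trans ?_ hs)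
        refine (isConj_iff.2 ⟨σ ^ c, ?_⟩).symm
        conv_lhs => rw [show σ * τ = σ ^ 1 * τ by rw [pow_one]]
        rw [refl_conj S.d c 1, add_comm]
    obtain ⟨k, hk⟩ := isConj_iff.1 key.symm
    exact S.exists_mem_of_comm hk S.z_comm_tau
  by_contra hno
  set Q : Subgroup X := Subgroup.zpowers (σ ^ 2) with hQ
  have hσ2 : σ ^ 2 ∈ L := (S.pow_mem_iff 2).2 even_two
  have hu : σ * τ ∈ L := by simpa using (S.refl_mem_iff 1).2 odd_one
  have hQD : Q ≤ (P : Subgroup X) ⊓ L :=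
    Subgroup.zpowers_le.2 ⟨pow_mem S.d.hσ 2, hσ2⟩
  have hQc : Nat.card Q = h := by
    rw [hQ, Nat.card_zpowers, orderOf_pow' σ two_ne_zero, S.d.ord, Nat.gcd_mul_right_left,
      Nat.mul_div_cancel_left h two_pos]
  obtain ⟨M, hMn, hMi, -⟩ := CfsgLib.ThompsonTransfer.exists_normal_index_two
    (((P : Subgroup X) ⊓ L).subgroupOf L) (Q.subgroupOf L)
    (by
      have e1 := ((((P : Subgroup X) ⊓ L).subgroupOf L)).card_mul_index
      rw [Nat.card_congr (Subgroup.subgroupOfEquivOfLe inf_le_right).toEquiv, S.card_P_inf] at e1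
      have e2 := (P : Subgroup X).card_mul_index
      have e3 := L.card_mul_index
      rw [S.d.card] at e2
      rw [S.index] at e3
      have hpos := S.d.pos
      have e4 : 4 * h * (((P : Subgroup X) ⊓ L).subgroupOf L).index =
          4 * h * (P : Subgroup X).index := by
        rw [e2, ← e3, ← e1]; ring
      rw [Nat.eq_of_mul_eq_mul_left (by omega) e4]
      exact Nat.odd_iff.2 (by have := P.not_dvd_index; omega))
    (by
      rw [Subgroup.relIndex_subgroupOf inf_le_right]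
      have e1 := (Q.subgroupOf ((P : Subgroup X) ⊓ L)).card_mul_index
      rw [Nat.card_congr (Subgroup.subgroupOfEquivOfLe hQD).toEquiv, hQc, S.card_P_inf] at e1
      show (Q.subgroupOf ((P : Subgroup X) ⊓ L)).index = 2
      exact Nat.eq_of_mul_eq_mul_left S.d.pos (by rw [e1, mul_comm]))
    ⟨σ * τ, hu⟩ (Subtype.ext (by
      rw [Subgroup.coe_pow, sq, Subgroup.coe_one]; simpa using refl_sq S.d 1))
    (fun g hg => hno (isConj_iff.2 ⟨g, by
      have hz := Subgroup.mem_subgroupOf.1 hg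
      rw [hQ] at hz
      have hz' : (g : X) * (σ * τ) * (g : X)⁻¹ ∈ Subgroup.zpowers σ :=
        Subgroup.zpowers_le.2 (pow_mem (Subgroup.mem_zpowers σ) 2) (by simpa using hz)
      refine (rot_invol S.d hz' ?_).resolve_left ?_
      · have := refl_sq S.d 1
        rw [pow_one] at this
        rw [conj_mul, this, mul_one, mul_inv_cancel]
      · rw [conj_eq_one_iff]
        exact fun e => refl_ne S.d 1 0 (by rwa [pow_zero, pow_one])⟩))
  rcases hMn.eq_bot_or_eq_top with e | e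
  · rw [e, Subgroup.index_bot] at hMi
    refine S.noncomm ⟨⟨fun a b => ?_⟩⟩
    haveI : IsCyclic L := isCyclic_of_prime_card (p := 2) hMi
    exact IsCyclic.commGroup.mul_comm a b
  · rw [e, Subgroup.index_top] at hMi
    omega

/-- The outer involutions are conjugate to `τ`. -/
theorem outer_conj (S : Setting P σ τ h L) {x : X} (hx : x ∉ L) (h2 : x * x = 1) :
    ∃ g ∈ L, g * τ * g⁻¹ = x := by
  obtain ⟨g, hg⟩ := exists_conj_mem_P P h2
  have h1 : x ≠ 1 := fun e => hx (e ▸ one_mem L)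
  have hout : g * x * g⁻¹ ∉ L := fun hm => hx (by
    have := S.normal.conj_mem _ hm g⁻¹
    simpa [mul_assoc] using this)
  rcases invol_P S.d hg (by rw [conj_mul, h2, mul_one, mul_inv_cancel])
    (by rw [Ne, conj_eq_one_iff]; exact h1) with e | ⟨i, -, e⟩
  · exact absurd (e ▸ S.z_mem) hout
  · rw [e, S.refl_mem_iff, Nat.not_odd_iff_even] at hout
    obtain ⟨c, rfl⟩ := hout
    refine S.exists_mem_of_comm (g := g⁻¹ * σ ^ c) ?_ (Commute.refl τ)
    have hr := refl_conj S.d c 0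
    rw [pow_zero, one_mul, zero_add] at hr
    calc g⁻¹ * σ ^ c * τ * (g⁻¹ * σ ^ c)⁻¹ = g⁻¹ * (σ ^ c * τ * (σ ^ c)⁻¹) * g := by group
      _ = g⁻¹ * (g * x * g⁻¹) * g := by rw [hr, e, two_mul]
      _ = x := by group

/-- Two commuting involutions of `C_L(τ)` are equal. -/
theorem comm_unique (S : Setting P σ τ h L) {j k : X} (hj : j ∈ L) (hk : k ∈ L) (hj1 : j ≠ 1)
    (hj2 : j * j = 1) (hk1 : k ≠ 1) (hk2 : k * k = 1) (hjτ : Commute j τ) (hkτ : Commute k τ)
    (hjk : Commute j k) : k = j := by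
  obtain ⟨g, hg, hgj⟩ := S.one_class hj hj1 hj2
  set f := MulAut.conj g⁻¹ with hf
  have hfj : f j = σ ^ h := by
    rw [hf, MulAut.conj_apply, inv_inv, ← hgj]; group
  have hkz : f k * σ ^ h = σ ^ h * f k := by rw [← hfj]; exact (hjk.symm.map f).eq
  have htz : f τ * σ ^ h = σ ^ h * f τ := by rw [← hfj]; exact (hjτ.symm.map f).eq
  have hfL : ∀ x, x ∈ L → f x ∈ L := fun x hx => by
    rw [hf, MulAut.conj_apply]; exact S.normal.conj_mem x hx _
  have hτ' : f τ ∉ L := fun hm => S.hτ (by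
    have := S.normal.conj_mem _ hm g
    simpa [hf, MulAut.conj_apply, mul_assoc] using this)
  rcases invol_cases S.d hkz (by simpa using hk1) (by rw [← map_mul, hk2, map_one]) with e | e
  · exact f.injective (e.trans hfj.symm)
  obtain ⟨o, ho, a, -, ea⟩ := e
  rcases invol_cases S.d htz (by simpa using S.tau_ne)
    (by rw [← map_mul, S.d.sq, map_one]) with e | ⟨o', ho', b, -, eb⟩
  · exact absurd (e ▸ S.z_mem) hτ'
  exfalso
  have hc := refl_part_comm S.d ho ho' (ea ▸ eb ▸ hkτ.map f)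
  have ha : Odd a := (S.part_mem_iff ho a).1 (ea ▸ hfL k hk)
  have hb : ¬ Odd b := fun hb => hτ' (eb ▸ (S.part_mem_iff ho' b).2 hb)
  rcases refl_comm S.d hc with e | e
  · exact hb ((S.refl_mem_iff b).1 (e ▸ (S.refl_mem_iff a).2 ha))
  · exact hb ((S.refl_mem_iff b).1 (e ▸ mul_mem S.z_mem ((S.refl_mem_iff a).2 ha)))

/-- The involutions of `C_L(τ)` are conjugate in `C_L(τ)`. -/
theorem conj_in_centralizer (S : Setting P σ τ h L) {j : X} (hj : j ∈ L) (hj1 : j ≠ 1)
    (hj2 : j * j = 1) (hjτ : Commute j τ) :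
    ∃ c ∈ L, Commute c τ ∧ c * σ ^ h * c⁻¹ = j := by
  have hz1 : σ ^ h ≠ 1 := ne_one_of_invol (orderOf_J S.d)
  have hz2 := mul_self_eq_one (orderOf_J S.d)
  have hodd : Odd (orderOf (σ ^ h * j)) := by
    by_contra hne
    rw [Nat.not_odd_iff_even] at hne
    obtain ⟨hm1, hm2⟩ := middle_commute hz2 hj2 hne
    set m := (σ ^ h * j) ^ (orderOf (σ ^ h * j) / 2) with hm
    have hmo : orderOf m = 2 := middle_orderOf hne (orderOf_pos _)
    have hmL : m ∈ L := pow_mem (mul_mem S.z_mem hj) _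
    have hmτ : Commute m τ := ((S.z_comm_tau.symm.mul_left hjτ).pow_left _)
    have e1 := S.comm_unique S.z_mem hmL hz1 hz2 (ne_one_of_invol hmo) (mul_self_eq_one hmo)
      S.z_comm_tau.symm hmτ hm1.symm
    have e2 := S.comm_unique hj hmL hj1 hj2 (ne_one_of_invol hmo) (mul_self_eq_one hmo)
      hjτ hmτ hm2.symm
    have : σ ^ h = j := e1.symm.trans e2
    rw [← this, hz2, orderOf_one] at hne
    exact absurd hne Nat.not_even_one
  obtain ⟨c, hc, hcj⟩ := exists_conj_of_odd hz2 hj2 hodd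
  have hle : Subgroup.closure ({σ ^ h, j} : Set X) ≤
      L ⊓ Subgroup.centralizer ({τ} : Set X) := by
    rw [Subgroup.closure_le]
    rintro x (rfl | rfl)
    · exact ⟨S.z_mem, Subgroup.mem_centralizer_singleton_iff.2 S.z_comm_tau.symm.eq⟩
    · exact ⟨hj, Subgroup.mem_centralizer_singleton_iff.2 hjτ.eq⟩
  exact ⟨c, (hle hc).1, Subgroup.mem_centralizer_singleton_iff.1 (hle hc).2, hcj⟩

omit [Finite X] in
theorem zτ_eq_conj (S : Setting P σ τ h L) :
    σ ^ (h / 2) * τ * (σ ^ (h / 2))⁻¹ = σ ^ h * τ := by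
  have hr := refl_conj S.d (h / 2) 0
  rwa [pow_zero, one_mul, zero_add, Nat.mul_div_cancel' S.even] at hr

/-- The involutions of `C_L(zτ)` are conjugate in `C_L(zτ)`. -/
theorem conj_in_centralizer_shift (S : Setting P σ τ h L) {j : X} (hj : j ∈ L) (hj1 : j ≠ 1)
    (hj2 : j * j = 1) (hjτ : Commute j (σ ^ h * τ)) :
    ∃ c ∈ L, Commute c (σ ^ h * τ) ∧ c * σ ^ h * c⁻¹ = j := by
  set f := MulAut.conj (σ ^ (h / 2))⁻¹ with hf
  have hfi : ∀ x, f.symm x = σ ^ (h / 2) * x * (σ ^ (h / 2))⁻¹ := fun x => by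
    rw [hf, MulAut.conj_symm_apply, inv_inv]
  have hfτ : f.symm τ = σ ^ h * τ := by rw [hfi, S.zτ_eq_conj]
  have hfz : f.symm (σ ^ h) = σ ^ h := by
    rw [hfi, (Commute.pow_pow_self σ (h / 2) h).eq, mul_inv_cancel_right]
  obtain ⟨c, hc, hcτ, hcj⟩ := S.conj_in_centralizer (j := f j)
    (by rw [hf, MulAut.conj_apply]; exact S.normal.conj_mem j hj _) (by simpa using hj1)
    (by rw [← map_mul, hj2, map_one])
    (by
      have := hjτ.map f
      rwa [← hfτ, f.apply_symm_apply] at this)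
  refine ⟨f.symm c, by rw [hfi]; exact S.normal.conj_mem c hc _, hfτ ▸ hcτ.map f.symm, ?_⟩
  rw [← hfz, ← map_inv, ← map_mul, ← map_mul, hcj, f.symm_apply_apply]

end Setting

end CfsgLib.FourOnDihedral
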