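import Cfsg.Agent.Lib.FourOnDihedral.Count
import Cfsg.Agent.Lib.Invol.DihedralBlock
import Cfsg.Agent.Lib.Invol.GlaubermanZStar
import Cfsg.Agent.Lib.Char.Twist
import Cfsg.Agent.Lib.Char.SchurBound
import Mathlib.RingTheory.RootsOfUnity.Complex

/-!
# The principal block forces more fixed involutions than reflections in a coset

With `K` the normal 2-complement of `C(τ)`, the pairs (outer, inner) with product in `τ K` give
`4 t ^ 2 = Z * ∑ χ(τ) ^ 2 χ(z) / χ(1)` over the principal block, which forces `F < t`.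
-/

set_option autoImplicit false
set_option maxHeartbeats 400000
set_option linter.style.haveILetI false
set_option linter.unusedSectionVars false

open scoped ComplexConjugate

namespace CfsgLib.FourOnDihedral

open CfsgLib.Invol CfsgLib.Invol.DihPairs

universe u

variable {X : Type u} [Group X] [Finite X]

theorem card_conj_fibre {x u : X} (hu : IsConj x u) :
    Nat.card {a : X // a * x * a⁻¹ = u} = Nat.card (Subgroup.centralizer ({x} : Set X)) := by
  obtain ⟨g, rfl⟩ := isConj_iff.1 hu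
  refine Nat.card_congr ((Equiv.mulLeft g⁻¹).subtypeEquiv fun a => ?_)
  simp only [Equiv.coe_mulLeft]
  rw [mem_centralizer_singleton_iff']
  constructor
  · intro ha
    calc g⁻¹ * a * x * (g⁻¹ * a)⁻¹ = g⁻¹ * (a * x * a⁻¹) * g := by group
      _ = x := by rw [ha]; group
  · intro ha
    calc a * x * a⁻¹ = g * (g⁻¹ * a * x * (g⁻¹ * a)⁻¹) * g⁻¹ := by group
      _ = g * x * g⁻¹ := by rw [ha]

/-- The class algebra formula for products of conjugates of two involutions. -/
theorem sum_mul_div [Fintype X] [DecidableEq X] {s t : X} (hs : s⁻¹ = s) (ht : t⁻¹ = t) (g : X) :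
    (Fintype.card X : ℂ) *
        ∑ χ : Cfsg.IrrCharacter X, (χ : X → ℂ) s * (χ : X → ℂ) t * (χ : X → ℂ) g / (χ : X → ℂ) 1 =
      ((Finset.univ.filter fun ab : X × X =>
        ab.1 * s * ab.1⁻¹ * (ab.2 * t * ab.2⁻¹) = g).card : ℂ) := by
  classical
  have hG : (Fintype.card X : ℂ) ≠ 0 := Nat.cast_ne_zero.2 Fintype.card_ne_zero
  have hsum : ∀ χ : Cfsg.IrrCharacter X,
      (Fintype.card X : ℂ) *
          ((χ : X → ℂ) s * (χ : X → ℂ) t * (χ : X → ℂ) g / (χ : X → ℂ) 1) * (Fintype.card X : ℂ) =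
        (χ : X → ℂ) 1 * ∑ b : X, ∑ a : X, (χ : X → ℂ) (a * t * a⁻¹ * (b * s * b⁻¹ * g)) := by
    intro χ
    have h1 := CfsgLib.Char.IsIrrCharacter.apply_one_ne_zero χ.2
    have hin : ∀ b, (χ : X → ℂ) 1 * ∑ a : X, (χ : X → ℂ) (a * t * a⁻¹ * (b * s * b⁻¹ * g)) =
        (Fintype.card X : ℂ) * ((χ : X → ℂ) t * (χ : X → ℂ) (b * s * b⁻¹ * g)) := fun b => by
      rw [mul_comm]; exact CfsgLib.Blk83.sum_conj_mul χ t _
    have hout := CfsgLib.Blk83.sum_conj_mul χ s g
    rw [Finset.mul_sum, Finset.sum_congr rfl fun b _ => hin b, ← Finset.mul_sum, ← Finset.mul_sum,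
      ← mul_assoc (Fintype.card X : ℂ)]
    field_simp
    linear_combination -((χ : X → ℂ) t) * hout
  refine mul_right_cancel₀ hG ?_
  rw [Finset.mul_sum, Finset.sum_mul, Finset.sum_congr rfl fun χ _ => hsum χ]
  simp only [Finset.mul_sum]
  rw [Finset.sum_comm]
  simp only [Finset.sum_comm (s := (Finset.univ : Finset (Cfsg.IrrCharacter X)))]
  simp only [CfsgLib.Char.sum_apply_one_mul, Nat.card_eq_fintype_card]
  rw [← Finset.sum_product', Finset.univ_product_univ, Finset.sum_ite, Finset.sum_const_zero,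
    add_zero, Finset.sum_const, nsmul_eq_mul]
  congr 2
  have hsq : ∀ a x : X, x⁻¹ = x → a * x * a⁻¹ * (a * x * a⁻¹) = 1 := fun a x hx => by
    have : x * x = 1 := by conv_lhs => arg 1; rw [← hx]
                           rw [inv_mul_cancel]
    rw [conj_mul, this, mul_one, mul_inv_cancel]
  refine Finset.card_bij (fun ba _ => (ba.1, ba.2)) ?_ ?_ ?_
  · intro ba hba
    rw [Finset.mem_filter] at hba ⊢
    refine ⟨Finset.mem_univ _, ?_⟩
    have h := hba.2
    rw [← mul_assoc] at h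
    rw [eq_inv_of_mul_eq_one_right h]
    simp [mul_inv_rev, hs, ht, mul_assoc]
  · intro a _ b _ h; exact h
  · intro ab hab
    refine ⟨ab, ?_, rfl⟩
    rw [Finset.mem_filter] at hab ⊢
    refine ⟨Finset.mem_univ _, ?_⟩
    rw [← hab.2]
    calc _ = ab.2 * t * ab.2⁻¹ * (ab.1 * s * ab.1⁻¹ * (ab.1 * s * ab.1⁻¹)) *
          (ab.2 * t * ab.2⁻¹) := by simp only [mul_assoc]
      _ = 1 := by rw [hsq _ _ hs, mul_one, hsq _ _ ht]

/-- The value of a character at an involution. -/
theorem exists_value_invol (χ : Cfsg.IrrCharacter X) {g : X} (hg : orderOf g = 2) :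
    ∃ n m : ℕ, 0 < n ∧ (χ : X → ℂ) 1 = n ∧ (χ : X → ℂ) g = ((n : ℤ) - 2 * m : ℤ) := by
  classical
  obtain ⟨n, μ, hμ, -, h1, hp⟩ := CfsgLib.Char.exists_eigenvalues_char
    (CfsgLib.Char.IsIrrCharacter.isCharacter χ.2) g
  refine ⟨n, (Finset.univ.filter fun i => μ i ≠ 1).card, Nat.pos_of_ne_zero fun e => ?_, h1, ?_⟩
  · exact CfsgLib.Char.IsIrrCharacter.apply_one_ne_zero χ.2 (by rw [h1, e, Nat.cast_zero])
  have h := hp 1
  rw [pow_one] at h
  have hval : ∀ i, μ i = 1 - 2 * (if μ i ≠ 1 then 1 else 0) := fun i => by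
    have h2 := hμ i
    rw [hg, sq_eq_one_iff] at h2
    rcases h2 with e | e <;> rw [e] <;> norm_num
  rw [h, Finset.sum_congr rfl fun i _ => pow_one (μ i), Finset.sum_congr rfl fun i _ => hval i,
    Finset.sum_sub_distrib, ← Finset.mul_sum, Finset.sum_boole]
  push_cast
  simp

variable {P : Sylow 2 X} {σ τ : X} {h : ℕ} {L : Subgroup X}

namespace Setting

/-- A normal subgroup containing `z` contains `L`. -/
theorem le_of_z_mem (S : Setting P σ τ h L) (K : Subgroup X) [K.Normal] (hz : σ ^ h ∈ K) :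
    L ≤ K := by
  haveI := S.simple
  haveI := S.normal
  have hn : (K.subgroupOf L).Normal := inferInstance
  rcases hn.eq_bot_or_eq_top with e | e
  · have : (⟨σ ^ h, S.z_mem⟩ : L) ∈ K.subgroupOf L := Subgroup.mem_subgroupOf.2 hz
    rw [e, Subgroup.mem_bot, ← orderOf_eq_one_iff, Subgroup.orderOf_mk, orderOf_J S.d] at this
    exact absurd this (by norm_num)
  · exact Subgroup.subgroupOf_eq_top.1 e

/-- Linear characters are trivial at `z`. -/
theorem linear_z (S : Setting P σ τ h L) (f : X →* ℂˣ) : f (σ ^ h) = 1 := by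
  haveI := S.simple
  have hn : (f.comp L.subtype).ker.Normal := inferInstance
  rcases hn.eq_bot_or_eq_top with e | e
  · refine absurd ⟨⟨fun a b => ?_⟩⟩ S.noncomm
    exact (MonoidHom.ker_eq_bot_iff _).1 e (by rw [map_mul, map_mul, mul_comm])
  · have : (⟨σ ^ h, S.z_mem⟩ : L) ∈ (f.comp L.subtype).ker := e ▸ Subgroup.mem_top _
    exact this

/-- An irreducible character whose kernel contains `z` has degree one. -/
theorem degree_eq_one (S : Setting P σ τ h L) (χ : Cfsg.IrrCharacter X)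
    (hz : (χ : X → ℂ) (σ ^ h) = (χ : X → ℂ) 1) : (χ : X → ℂ) 1 = 1 := by
  classical
  cases nonempty_fintype X
  obtain ⟨n, ρ, hρ, hχ⟩ := χ.2
  have hker : σ ^ h ∈ MonoidHom.ker ρ := by
    rw [MonoidHom.mem_ker]
    rw [← hχ, Representation.char_one] at hz
    exact (CfsgLib.Char.character_eq_degree_iff ρ _).1 hz
  have hle := S.le_of_z_mem (MonoidHom.ker ρ) hker
  have hval : ∀ g ∈ L, (χ : X → ℂ) g = (n : ℂ) := fun g hg => by
    rw [← hχ, (CfsgLib.Char.character_eq_degree_iff ρ g).2 (MonoidHom.mem_ker.1 (hle hg))]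
    simp
  have h1 : (χ : X → ℂ) 1 = (n : ℂ) := hval 1 L.one_mem
  have hnorm := CfsgLib.Char.classInner_irr_self χ.2
  have hX : (Nat.card X : ℂ) ≠ 0 := Nat.cast_ne_zero.2 Nat.card_pos.ne'
  rw [Cfsg.classInner, inv_mul_eq_iff_eq_mul₀ hX, mul_one] at hnorm
  have hsum : (∑ g ∈ Finset.univ.filter (· ∈ L), Complex.normSq ((χ : X → ℂ) g)) ≤
      (Nat.card X : ℝ) := by
    have hr : (∑ g : X, Complex.normSq ((χ : X → ℂ) g)) = (Nat.card X : ℝ) := by
      have := congrArg Complex.re hnorm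
      simpa [Complex.mul_conj] using this
    rw [← hr]
    exact Finset.sum_le_sum_of_subset_of_nonneg (Finset.subset_univ _)
      fun g _ _ => Complex.normSq_nonneg _
  rw [Finset.sum_congr rfl fun g hg => by rw [hval g (Finset.mem_filter.1 hg).2],
    Finset.sum_const, nsmul_eq_mul, Complex.normSq_natCast] at hsum
  have hcardL : (Finset.univ.filter (· ∈ L)).card = Nat.card L := by
    rw [Nat.card_eq_fintype_card, Fintype.card_subtype]
  rw [hcardL, ← L.card_mul_index, S.index] at hsum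
  have hle2 : Nat.card L * (n * n) ≤ Nat.card L * 2 := by exact_mod_cast hsum
  have hn2 := Nat.le_of_mul_le_mul_left hle2 Nat.card_pos
  have hn0 : n ≠ 0 := fun e => CfsgLib.Char.IsIrrCharacter.apply_one_ne_zero χ.2
    (by rw [h1, e, Nat.cast_zero])
  have : n = 1 := by
    rcases Nat.lt_or_ge n 2 with hh | hh
    · omega
    · nlinarith
  rw [h1, this, Nat.cast_one]

/-- The sign of the coset of `L`. -/
noncomputable def signHom (S : Setting P σ τ h L) : X →* ℂˣ :=
  (Units.map (Int.castRingHom ℂ).toMonoidHom).comp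
    (CfsgLib.ThompsonTransfer.indexTwoSign L S.index)

theorem signHom_mem (S : Setting P σ τ h L) {g : X} (hg : g ∈ L) : (S.signHom g : ℂ) = 1 := by
  simp [signHom, CfsgLib.ThompsonTransfer.indexTwoSign, hg]

theorem signHom_not_mem (S : Setting P σ τ h L) {g : X} (hg : g ∉ L) :
    (S.signHom g : ℂ) = -1 := by
  simp [signHom, CfsgLib.ThompsonTransfer.indexTwoSign, hg]

theorem signHom_mul_mem_block {M : Ideal Cfsg.AlgInt} (hM : Cfsg.IsPModular 2 M)
    (S : Setting P σ τ h L) (χ : Cfsg.IrrCharacter X)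
    (hχ : χ ∈ Cfsg.principalBlock M X) (ψ : Cfsg.IrrCharacter X)
    (hψ : ∀ g, (ψ : X → ℂ) g = (S.signHom g : ℂ) * (χ : X → ℂ) g) :
    ψ ∈ Cfsg.principalBlock M X := by
  intro g
  have hd := hχ g
  have e1 : (ψ : X → ℂ) 1 = (χ : X → ℂ) 1 := by rw [hψ, S.signHom_mem L.one_mem, one_mul]
  have e2 : Cfsg.centralChar (ψ : X → ℂ) g =
      (S.signHom g : ℂ) * Cfsg.centralChar (χ : X → ℂ) g := by
    simp only [Cfsg.centralChar, e1, hψ g]; ring
  rw [e2]
  by_cases hg : g ∈ L
  · rwa [S.signHom_mem hg, one_mul]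
  · rw [S.signHom_not_mem hg]
    set c1 := Cfsg.centralChar (fun _ : X => (1 : ℂ)) g with hc1
    set cA := Cfsg.centralChar (χ : X → ℂ) g
    have hc : c1 = ((Subgroup.centralizer ({g} : Set X)).index : ℂ) := by
      rw [hc1, Cfsg.centralChar, mul_one, div_one]
    have h2 : Cfsg.MemLocalIdeal M (2 * c1) := by
      rw [hc, ← Nat.cast_two, ← Nat.cast_mul]
      exact (CfsgLib.BlockReg.memIdeal_natCast_iff hM _).2 (Dvd.intro _ rfl)
    have := CfsgLib.BlockReg.memIdeal_sub hM h2 hd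
    rwa [show 2 * c1 - (c1 - cA) = c1 - -1 * cA by ring] at this

/-- The elements of odd order in `C(τ)` form a normal subgroup of index four. -/
theorem exists_complement (S : Setting P σ τ h L) :
    ∃ K : Subgroup (Subgroup.centralizer ({τ} : Set X)), K.Normal ∧ ¬ 2 ∣ Nat.card K ∧
      K.index = 4 := by
  classical
  have : Fact (Nat.Prime 2) := ⟨Nat.prime_two⟩
  set C := Subgroup.centralizer ({τ} : Set X) with hC
  have hτC : τ ∈ C := Subgroup.mem_centralizer_singleton_iff.2 rfl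
  have hp : IsPGroup 2 (Subgroup.zpowers (⟨τ, hτC⟩ : C)) := by
    refine IsPGroup.of_card (n := 1) ?_
    rw [Nat.card_zpowers, Subgroup.orderOf_mk, orderOf_eq_two S.tau_ne S.d.sq, pow_one]
  obtain ⟨Q, hQ⟩ := hp.exists_le_sylow
  have hτQ : (⟨τ, hτC⟩ : C) ∈ Q := hQ (Subgroup.mem_zpowers _)
  obtain ⟨R, hR⟩ := (Q.2.map C.subtype).exists_le_sylow
  obtain ⟨g, hg⟩ := MulAction.exists_smul_eq X R P
  have hmem : ∀ q ∈ Q, g * (q : X) * g⁻¹ ∈ (P : Subgroup X) := fun q hq => by
    rw [← hg]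
    exact Subgroup.smul_mem_pointwise_smul (q : X) (MulAut.conj g) (R : Subgroup X)
      (hR ⟨q, hq, rfl⟩)
  obtain ⟨i, -, hi⟩ : ∃ i, i < 2 * h ∧ g * τ * g⁻¹ = σ ^ i * τ := by
    refine (invol_P S.d (hmem _ hτQ) ?_ ?_).resolve_left fun e => ?_
    · show g * τ * g⁻¹ * (g * τ * g⁻¹) = 1
      rw [conj_mul, S.d.sq, mul_one, mul_inv_cancel]
    · rw [Ne, conj_eq_one_iff]; exact S.tau_ne
    · refine S.hτ ?_
      have := S.normal.conj_mem _ (e ▸ S.z_mem : g * τ * g⁻¹ ∈ L) g⁻¹
      simpa [mul_assoc] using this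
  have hcomm : ∀ q : C, Commute (g * (q : X) * g⁻¹) (σ ^ i * τ) := fun q => by
    rw [← hi]
    exact (Commute.conj_iff g).2 (Subgroup.mem_centralizer_singleton_iff.1 q.2)
  have hle : Nat.card (Q : Subgroup C) ≤ 4 := by
    rw [← card_centralizer_refl S.d i]
    refine Nat.card_le_card_of_injective
      (fun q => ⟨g * ((q : C) : X) * g⁻¹, hmem _ q.2, (hcomm _).eq⟩) fun a b e => ?_
    exact Subtype.ext (Subtype.ext (mul_left_cancel (mul_right_cancel (congrArg Subtype.val e))))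
  have hsq : ∀ q ∈ Q, q * q = 1 := fun q hq => by
    refine Subtype.ext ?_
    have hs2 : g * (q : X) * g⁻¹ * (g * (q : X) * g⁻¹) = 1 := by
      obtain ⟨j, -, hj | hj⟩ := cases S.d (hmem q hq)
      · have e := refl_conj S.d j i
        have hc := hcomm q
        rw [hj] at hc
        rw [hc.eq, mul_inv_cancel_right, pow_add, mul_assoc, mul_comm 2 j, pow_mul, sq] at e
        have e0 : σ ^ i * τ = σ ^ i * (σ ^ j * σ ^ j) * τ := by rw [mul_assoc (σ ^ i), ← e]
        have e1 := left_eq_mul.1 (mul_right_cancel e0)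
        exact hj ▸ e1
      · rw [hj]; exact refl_sq S.d j
    rw [conj_mul, conj_eq_one_iff] at hs2
    exact hs2
  have hdvd : 4 ∣ Nat.card C := by
    have hidx : (L.subgroupOf C).index = 2 := by
      rw [Subgroup.index_eq_two_iff]
      refine ⟨⟨τ, hτC⟩, fun b => ?_⟩
      simp only [Subgroup.mem_subgroupOf, Subgroup.coe_mul, S.mul_mem_iff, iff_false_right S.hτ]
      exact xor_not_left.2 Iff.rfl
    have hzC : σ ^ h ∈ C := Subgroup.mem_centralizer_singleton_iff.2 S.z_comm_tau.symm.eq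
    have h2 : 2 ∣ Nat.card (L.subgroupOf C) := by
      have hm : (⟨σ ^ h, hzC⟩ : C) ∈ L.subgroupOf C := Subgroup.mem_subgroupOf.2 S.z_mem
      have := orderOf_dvd_natCard (⟨_, hm⟩ : L.subgroupOf C)
      rwa [Subgroup.orderOf_mk, Subgroup.orderOf_mk, orderOf_J S.d] at this
    rw [← (L.subgroupOf C).card_mul_index, hidx]
    obtain ⟨c, hc⟩ := h2
    exact ⟨c, by rw [hc]; ring⟩
  have hQ4 : Nat.card (Q : Subgroup C) = 4 := by
    have hcop : Nat.Coprime 4 (Q : Subgroup C).index :=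
      (Nat.prime_two.coprime_iff_not_dvd.2 Q.not_dvd_index).pow_left 2
    rw [← (Q : Subgroup C).card_mul_index] at hdvd
    have := Nat.le_of_dvd Nat.card_pos (hcop.dvd_of_dvd_mul_right hdvd)
    omega
  have hQcomm : ∀ a ∈ Q, ∀ b ∈ Q, a * b = b * a := fun a ha b hb => by
    have e1 := eq_inv_of_mul_eq_one_left (hsq a ha)
    have e2 := eq_inv_of_mul_eq_one_left (hsq b hb)
    have e3 := eq_inv_of_mul_eq_one_left (hsq (a * b) (mul_mem ha hb))
    rw [e3, mul_inv_rev, ← e1, ← e2]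
  have hnc : Subgroup.normalizer ((Q : Subgroup C) : Set C) ≤
      Subgroup.centralizer ((Q : Subgroup C) : Set C) := by
    intro n hn
    refine Subgroup.mem_centralizer_iff.2 fun q hq => ?_
    have hτc : ∀ c : C, Commute (c : X) τ := fun c => Subgroup.mem_centralizer_singleton_iff.1 c.2
    have key : ∀ q ∈ Q, (q : X) ∈ L → n * q * n⁻¹ = q := by
      intro q hq hqL
      by_cases hq1 : q = 1
      · subst hq1; group
      have hq' : n * q * n⁻¹ ∈ (Q : Subgroup C) := (Subgroup.mem_normalizer_iff.1 hn q).1 hq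
      refine Subtype.ext (S.comm_unique hqL (S.normal.conj_mem _ hqL (n : X))
        (fun e => hq1 (Subtype.ext e)) (congrArg Subtype.val (hsq q hq))
        (fun e => hq1 (conj_eq_one_iff.1 (Subtype.ext e : n * q * n⁻¹ = 1)))
        (congrArg Subtype.val (hsq _ hq')) (hτc q) (hτc (n * q * n⁻¹))
        (congrArg Subtype.val (hQcomm q hq _ hq')))
    have hfix : n * q * n⁻¹ = q := by
      by_cases hqL : (q : X) ∈ L
      · exact key q hq hqL
      · have h1 := key (q * ⟨τ, hτC⟩) (mul_mem hq hτQ)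
          (S.mul_mem_iff.2 (iff_of_false hqL S.hτ))
        have h2 : n * ⟨τ, hτC⟩ * n⁻¹ = (⟨τ, hτC⟩ : C) := by
          refine Subtype.ext ?_
          show (n : X) * τ * (n : X)⁻¹ = τ
          rw [(hτc n).eq, mul_inv_cancel_right]
        refine mul_right_cancel (b := (⟨τ, hτC⟩ : C)) ?_
        calc n * q * n⁻¹ * ⟨τ, hτC⟩ = n * q * n⁻¹ * (n * ⟨τ, hτC⟩ * n⁻¹) := by rw [h2]
          _ = n * (q * ⟨τ, hτC⟩) * n⁻¹ := conj_mul
          _ = _ := h1
    exact (mul_inv_eq_iff_eq_mul.1 hfix).symm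
  refine ⟨(MonoidHom.transferSylow Q hnc).ker, inferInstance, ?_, ?_⟩
  · rw [← (MonoidHom.ker_transferSylow_isComplement' Q hnc).index_eq_card]
    exact Q.not_dvd_index
  · rw [(MonoidHom.ker_transferSylow_isComplement' Q hnc).symm.index_eq_card, hQ4]

/-- `4 t ^ 2 = Z * ∑ χ(τ) ^ 2 χ(z) / χ(1)` over the principal block. -/
theorem block_count {M : Ideal Cfsg.AlgInt} (hM : Cfsg.IsPModular 2 M) (S : Setting P σ τ h L)
    (K : Subgroup (Subgroup.centralizer ({τ} : Set X))) [K.Normal] (hK : ¬ 2 ∣ Nat.card K)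
    (hidx : K.index = 4) :
    (numInv L : ℂ) * ∑ χ ∈ BlockCol.pBlock M X,
        (χ : X → ℂ) τ * (χ : X → ℂ) (σ ^ h) * (χ : X → ℂ) τ / (χ : X → ℂ) 1 =
      4 * (numFix L τ : ℂ) ^ 2 := by
  classical
  cases nonempty_fintype X
  have : Fact (Nat.Prime 2) := ⟨Nat.prime_two⟩
  have hτC : τ ∈ (Subgroup.centralizer ({τ} : Set X)) := Subgroup.mem_centralizer_singleton_iff.2 rfl
  have hτi : τ⁻¹ = τ := inv_eq_of_mul_eq_one_right S.d.sq
  have hzi : (σ ^ h)⁻¹ = σ ^ h := inv_eq_self (orderOf_J S.d)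
  have hoτ : orderOf τ = 2 := orderOf_eq_two S.tau_ne S.d.sq
  have hsum : (Nat.card K : ℂ) * ∑ χ ∈ BlockCol.pBlock M X,
      (χ : X → ℂ) τ * (χ : X → ℂ) (σ ^ h) * (χ : X → ℂ) τ / (χ : X → ℂ) 1 =
      ∑ n : K, ∑ χ : Cfsg.IrrCharacter X,
        (χ : X → ℂ) τ * (χ : X → ℂ) (σ ^ h) * (χ : X → ℂ) (τ * ((n : (Subgroup.centralizer ({τ} : Set X))) : X)) /
          (χ : X → ℂ) 1 := by
    rw [Finset.sum_comm]
    simp only [mul_div_right_comm, ← Finset.mul_sum]
    simp only [fun χ => SectionAverage.sum_section_coset hM (x := τ) ⟨1, by rw [hoτ, pow_one]⟩ K hK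
      (k := 2) (by rw [hidx]; norm_num) χ]
    simp only [mul_ite, mul_zero, Finset.sum_ite_mem, Finset.univ_inter]
    rw [Finset.mul_sum]
    exact Finset.sum_congr rfl fun χ _ => by ring
  have hmemK : ∀ c : (Subgroup.centralizer ({τ} : Set X)), ¬ 2 ∣ orderOf c ↔ c ∈ K := fun c =>
    BlockCol.regular_iff_mem K hK (k := 2) (by rw [hidx]; norm_num) c
  have hpairs : Nat.card {p : X × X // (Outer L p.1 ∧ Inner L p.2) ∧
      ∃ n : K, p.1 * p.2 = τ * ((n : (Subgroup.centralizer ({τ} : Set X))) : X)} = numFix L τ * numFix L τ := by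
    rw [← S.fibre_tau]
    refine Nat.card_congr (Equiv.subtypeEquivRight fun p => ?_)
    obtain ⟨u, v⟩ := p
    constructor
    · rintro ⟨⟨hu, hv⟩, n, hn⟩
      refine ⟨⟨hu, hv⟩, (eq_middle ?_ hoτ).symm⟩
      set y := ((n : (Subgroup.centralizer ({τ} : Set X))) : X) with hy
      have hyτ : Commute τ y := (Subgroup.mem_centralizer_singleton_iff.1 (n : (Subgroup.centralizer ({τ} : Set X))).2).symm
      obtain ⟨c, hc⟩ : Odd (orderOf y) := Nat.odd_iff.2 (by
        have h2 := (hmemK n).2 n.2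
        rw [← Subgroup.orderOf_coe, ← hy] at h2
        omega)
      refine Subgroup.mem_zpowers_iff.2 ⟨(orderOf y : ℤ), ?_⟩
      show (u * v) ^ ((orderOf y : ℕ) : ℤ) = τ
      have hn' : u * v = τ * y := hn
      rw [zpow_natCast, hn', hyτ.mul_pow, pow_orderOf_eq_one, mul_one, hc, pow_succ, pow_mul, sq,
        S.d.sq, one_pow, one_mul]
    · rintro ⟨⟨hu, hv⟩, hm⟩
      refine ⟨⟨hu, hv⟩, ?_⟩
      obtain ⟨c1, c2⟩ := middle_commute hu.2 (mul_self_eq_one hv.2) (S.even_order hu hv)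
      have hm' : (u * v) ^ (orderOf (u * v) / 2) = τ := hm
      rw [hm'] at c1 c2
      have hc : τ * (u * v) ∈ (Subgroup.centralizer ({τ} : Set X)) := Subgroup.mem_centralizer_singleton_iff.2
        ((Commute.refl τ).mul_left (c1.symm.mul_left c2.symm)).eq
      refine ⟨⟨⟨τ * (u * v), hc⟩, (hmemK _).1 ?_⟩, by
        show u * v = τ * (τ * (u * v))
        rw [← mul_assoc, S.d.sq, one_mul]⟩
      rw [Subgroup.orderOf_mk]
      by_contra h2
      have hev : Even (orderOf (τ * (u * v))) := even_iff_two_dvd.2 h2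
      -- `τ u` and `v` are involutions of `C_L(τ)`
      have hk : τ * u ∈ L := S.mul_mem_iff.2 (iff_of_false S.hτ hu.1)
      have hk2 : τ * u * (τ * u) = 1 := by
        rw [mul_assoc τ u, ← mul_assoc u τ, ← c1.eq, ← mul_assoc, ← mul_assoc, S.d.sq, one_mul,
          hu.2]
      have hk1 : τ * u ≠ 1 := fun e => by
        have hu1 : u ≠ 1 := fun e' => hu.1 (e' ▸ one_mem L)
        have hue : u = τ := (eq_inv_of_mul_eq_one_right e).trans hτi
        refine left_notMem_zpowers (orderOf_eq_two hu1 hu.2) hv.2 (fun e' => hu.1 (e' ▸ hv.1)) ?_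
        have h0 : (u * v) ^ (orderOf (u * v) / 2) ∈ Subgroup.zpowers (u * v) :=
          pow_mem (Subgroup.mem_zpowers _) _
        rwa [hm', ← hue] at h0
      have hkτ : Commute (τ * u) τ := (Commute.refl τ).mul_left c1.symm
      rw [← mul_assoc] at hev
      obtain ⟨d1, d2⟩ := middle_commute hk2 (mul_self_eq_one hv.2) hev
      have hmo := middle_orderOf hev (orderOf_pos (τ * u * v))
      set w := (τ * u * v) ^ (orderOf (τ * u * v) / 2)
      have hwL : w ∈ L := pow_mem (mul_mem hk hv.1) _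
      have hwτ : Commute w τ := (hkτ.mul_left c2.symm).pow_left _
      have e1 := S.comm_unique hk hwL hk1 hk2 (ne_one_of_invol hmo) (mul_self_eq_one hmo) hkτ hwτ
        d1.symm
      have e2 := S.comm_unique hv.1 hwL (ne_one_of_invol hv.2) (mul_self_eq_one hv.2)
        (ne_one_of_invol hmo) (mul_self_eq_one hmo) c2.symm hwτ d2.symm
      rw [e1.symm.trans e2, mul_self_eq_one hv.2, orderOf_one] at hev
      exact Nat.not_even_one hev
  -- conjugators
  have hconjA : ∀ a : X, Outer L (a * τ * a⁻¹) := fun a => by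
    refine ⟨fun hm => S.hτ ?_, by rw [conj_mul, S.d.sq, mul_one, mul_inv_cancel]⟩
    have := S.normal.conj_mem _ hm a⁻¹
    simpa [mul_assoc] using this
  set cτ := Nat.card (Subgroup.centralizer ({τ} : Set X)) with hcτ
  set cz := Nat.card (Subgroup.centralizer ({σ ^ h} : Set X)) with hcz
  set sS := Finset.univ.filter fun p : X × X => (Outer L p.1 ∧ Inner L p.2) ∧
      ∃ n : K, p.1 * p.2 = τ * ((n : (Subgroup.centralizer ({τ} : Set X))) : X) with hsS
  set F : X × X → X × X := fun ab => (ab.1 * τ * ab.1⁻¹, ab.2 * σ ^ h * ab.2⁻¹) with hF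
  set sA := Finset.univ.filter fun ab : X × X => ∃ n : K, (F ab).1 * (F ab).2 = τ * ((n : (Subgroup.centralizer ({τ} : Set X))) : X)
    with hsA
  have hto : ∀ ab ∈ sA, F ab ∈ sS := fun ab hab => by
    simp only [hsS, hsA, Finset.mem_filter, Finset.mem_univ, true_and] at hab ⊢
    exact ⟨⟨hconjA _, S.inner_conj _ S.inner_z⟩, hab⟩
  have hfib : ∀ p ∈ sS, (sA.filter fun ab => F ab = p).card = cτ * cz := by
    intro p hp
    simp only [hsS, Finset.mem_filter, Finset.mem_univ, true_and] at hp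
    obtain ⟨⟨hu, hv⟩, hn⟩ := hp
    have e : (sA.filter fun ab => F ab = p) =
        (Finset.univ.filter fun a : X => a * τ * a⁻¹ = p.1) ×ˢ
          (Finset.univ.filter fun b : X => b * σ ^ h * b⁻¹ = p.2) := by
      ext ab
      simp only [hsA, hF, Finset.mem_filter, Finset.mem_univ, true_and, Finset.mem_product,
        Prod.ext_iff]
      exact ⟨fun hh => hh.2, fun hh => ⟨by rw [hh.1, hh.2]; exact hn, hh⟩⟩
    obtain ⟨a, -, ha⟩ := S.outer_conj hu.1 hu.2
    obtain ⟨b, -, hb⟩ := S.one_class hv.1 (ne_one_of_invol hv.2) (mul_self_eq_one hv.2)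
    rw [e, Finset.card_product, hcτ, hcz, ← card_conj_fibre (isConj_iff.2 ⟨a, ha⟩),
      ← card_conj_fibre (isConj_iff.2 ⟨b, hb⟩), Nat.card_eq_fintype_card, Nat.card_eq_fintype_card,
      Fintype.card_subtype, Fintype.card_subtype]
  have hcA : sA.card = numFix L τ * numFix L τ * (cτ * cz) := by
    rw [Finset.card_eq_sum_card_fiberwise hto, Finset.sum_const_nat hfib, ← hpairs,
      Nat.card_eq_fintype_card, Fintype.card_subtype]
  have hall : ∑ n : K, (Finset.univ.filter fun ab : X × X =>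
      ab.1 * τ * ab.1⁻¹ * (ab.2 * σ ^ h * ab.2⁻¹) = τ * ((n : (Subgroup.centralizer ({τ} : Set X))) : X)).card = sA.card := by
    rw [← Finset.card_biUnion]
    · congr 1
      ext ab
      simp [hsA, hF]
    · intro a _ b _ hne
      rw [Function.onFun, Finset.disjoint_left]
      simp only [Finset.mem_filter, Finset.mem_univ, true_and]
      intro ab h1 h2
      exact hne (Subtype.ext (Subtype.ext (mul_left_cancel (h1.symm.trans h2))))
  have hmain : (Fintype.card X : ℂ) * ((Nat.card K : ℂ) * ∑ χ ∈ BlockCol.pBlock M X,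
      (χ : X → ℂ) τ * (χ : X → ℂ) (σ ^ h) * (χ : X → ℂ) τ / (χ : X → ℂ) 1) =
      ((numFix L τ * numFix L τ * (cτ * cz) : ℕ) : ℂ) := by
    rw [hsum, Finset.mul_sum, Finset.sum_congr rfl fun n _ => sum_mul_div hτi hzi _,
      ← Nat.cast_sum, hall, hcA]
  have hX : Fintype.card X = numInv L * cz := by
    rw [← Nat.card_eq_fintype_card, ← (Subgroup.centralizer ({σ ^ h} : Set X)).card_mul_index,
      ← card_isConj_eq_index, hcz, mul_comm, numInv]
    congr 1
    refine Nat.card_congr (Equiv.subtypeEquivRight fun x => ⟨fun hx => ?_, fun hx => ?_⟩)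
    · obtain ⟨g, rfl⟩ := isConj_iff.1 hx
      exact S.inner_conj g S.inner_z
    · obtain ⟨g, -, hg⟩ := S.one_class hx.1 (ne_one_of_invol hx.2) (mul_self_eq_one hx.2)
      exact isConj_iff.2 ⟨g, hg⟩
  have hcτ4 : cτ = 4 * Nat.card K := by rw [hcτ, ← K.card_mul_index, hidx, mul_comm]
  rw [hX, hcτ4] at hmain
  push_cast at hmain
  have hne : (Nat.card K : ℂ) * (cz : ℂ) ≠ 0 :=
    mul_ne_zero (Nat.cast_ne_zero.2 Nat.card_pos.ne') (Nat.cast_ne_zero.2 Nat.card_pos.ne')
  refine mul_left_cancel₀ hne ?_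
  linear_combination hmain

/-- The inequality of the principal block. -/
theorem fib_lt_numFix (S : Setting P σ τ h L) {b : ℕ} (hb : h = 2 ^ b) :
    fib σ τ h 1 < numFix L τ := by
  classical
  cases nonempty_fintype X
  have : Fact (Nat.Prime 2) := ⟨Nat.prime_two⟩
  have h2 : 2 ≤ h := Nat.le_of_dvd S.d.pos S.even
  obtain ⟨M, hM⟩ := CfsgLib.BlockReg.exists_isPModular Nat.prime_two
  haveI := hM.2.1
  have hζ := Complex.isPrimitiveRoot_exp (2 * h) (by omega)
  set ζ := Complex.exp (2 * Real.pi * Complex.I / ((2 * h : ℕ) : ℂ))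
  obtain ⟨A, C, D, Bk, e, f, g, ⟨he, -, -⟩, ⟨hA1, -, -, -, -, -⟩, hBk, -, hmem, hsum, hval, hreg⟩ :=
    DihBlock.block_structure hM S.d hb h2 hζ
  obtain ⟨K, hKn, hK, hidx⟩ := S.exists_complement
  have hoτ : orderOf τ = 2 := orderOf_eq_two S.tau_ne S.d.sq
  let Sg : Cfsg.IrrCharacter X := ⟨_, CfsgLib.Char.isIrrCharacter_linear S.signHom⟩
  let AS : Cfsg.IrrCharacter X := ⟨_, CfsgLib.Char.IsIrrCharacter.linear_mul A.2 S.signHom⟩
  have hsg : ∀ x, (Sg : X → ℂ) x = (S.signHom x : ℂ) := fun _ => rfl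
  have has : ∀ x, (AS : X → ℂ) x = (S.signHom x : ℂ) * (A : X → ℂ) x := fun _ => rfl
  have hσval : (S.signHom σ : ℂ) = -1 := S.signHom_not_mem S.hσ
  have hzval : (S.signHom (σ ^ h) : ℂ) = 1 := S.signHom_mem S.z_mem
  have hpm : CfsgLib.Char.principalIrr ∈ Cfsg.principalBlock M X :=
    CfsgLib.Blocks.principalIrr_mem_principalBlock
  have hSgm : Sg ∈ Cfsg.principalBlock M X := S.signHom_mul_mem_block hM _ hpm Sg
    fun x => by rw [hsg, CfsgLib.Char.principalIrr_apply, mul_one]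
  have hASm : AS ∈ Cfsg.principalBlock M X :=
    S.signHom_mul_mem_block hM A ((hmem A).2 (Or.inr (Or.inl rfl))) AS has
  have h1h : (1 : ℕ) < 2 * h := by omega
  have hAσ : (A : X → ℂ) σ = e := by simpa using (hval 1 one_pos h1h).1
  have hAσ2 : (A : X → ℂ) (σ ^ 2) = e := (hval 2 two_pos (by omega)).1
  have hAz : (A : X → ℂ) (σ ^ h) = e := (hval h S.d.pos (by omega)).1
  have he0 : (e : ℂ) ≠ 0 := by rcases he with rfl | rfl <;> norm_num
  have hζh : ζ ^ h = -1 := by
    have : IsPrimitiveRoot (ζ ^ h) 2 :=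
      hζ.pow (by omega) (mul_comm 2 h)
    exact this.eq_neg_one_of_two_right
  have hBkz : ∀ k ∈ Finset.Ico 1 h,
      (Bk k : X → ℂ) (σ ^ h) = 2 * e ∨ (Bk k : X → ℂ) (σ ^ h) = -(2 * e) := by
    intro k hk
    rw [(hval h S.d.pos (by omega)).2.2.2 k hk, mul_comm k h, pow_mul, hζh]
    rcases Nat.even_or_odd k with hk' | hk'
    · left; rw [hk'.neg_one_pow]; norm_num; ring
    · right; rw [hk'.neg_one_pow]; norm_num; ring
  have hnotBk : ∀ χ : Cfsg.IrrCharacter X, ((χ : X → ℂ) (σ ^ h) = 1 ∨ (χ : X → ℂ) (σ ^ h) = e) →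
      ¬ ∃ k ∈ Finset.Ico 1 h, Bk k = χ := by
    rintro χ hχ ⟨k, hk, rfl⟩
    rcases he with rfl | rfl <;> rcases hBkz k hk with r | r <;> rcases hχ with r' | r' <;>
      rw [r] at r' <;> norm_num at r'
  have hSg1 : Sg ≠ CfsgLib.Char.principalIrr := fun e' => by
    have := congrArg (fun χ : Cfsg.IrrCharacter X => (χ : X → ℂ) σ) e'
    simp only [hsg, hσval, CfsgLib.Char.principalIrr_apply] at this
    norm_num at this
  have hSgA : Sg ≠ A := fun e' => by
    have h1 := congrArg (fun χ : Cfsg.IrrCharacter X => (χ : X → ℂ) σ) e'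
    have h2 := congrArg (fun χ : Cfsg.IrrCharacter X => (χ : X → ℂ) (σ ^ 2)) e'
    simp only [hsg, hσval, hAσ, hAσ2, S.signHom_mem ((S.pow_mem_iff 2).2 even_two)] at h1 h2
    rw [← h1] at h2
    norm_num at h2
  have hASA : AS ≠ A := fun e' => by
    have h1 := congrArg (fun χ : Cfsg.IrrCharacter X => (χ : X → ℂ) σ) e'
    simp only [has, hσval, hAσ] at h1
    exact he0 (by linear_combination (-(1 : ℂ) / 2) * h1)
  have hsgsq : ∀ x, (S.signHom x : ℂ) * (S.signHom x : ℂ) = 1 := fun x => by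
    by_cases hx : x ∈ L
    · rw [S.signHom_mem hx, one_mul]
    · rw [S.signHom_not_mem hx]; norm_num
  have hAS1 : AS ≠ CfsgLib.Char.principalIrr := fun e' => hSgA (Subtype.ext (funext fun x => by
    have h1 := congrArg (fun χ : Cfsg.IrrCharacter X => (χ : X → ℂ) x) e'
    simp only [has, CfsgLib.Char.principalIrr_apply] at h1
    calc (Sg : X → ℂ) x = (S.signHom x : ℂ) * ((S.signHom x : ℂ) * (A : X → ℂ) x) := by
          rw [h1, mul_one, hsg]
      _ = _ := by rw [← mul_assoc, hsgsq, one_mul]))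
  have hASS : AS ≠ Sg := fun e' => hA1 (Subtype.ext (funext fun x => by
    have h1 := congrArg (fun χ : Cfsg.IrrCharacter X => (χ : X → ℂ) x) e'
    simp only [has, hsg] at h1
    rw [CfsgLib.Char.principalIrr_apply]
    exact mul_left_cancel₀ (S.signHom x).ne_zero (h1.trans (mul_one _).symm)))
  have hCD : (C = Sg ∧ D = AS) ∨ (C = AS ∧ D = Sg) := by
    rcases (hmem Sg).1 hSgm with h' | h' | h' | h' | h'
    · exact absurd h' hSg1
    · exact absurd h' hSgA
    · rcases (hmem AS).1 hASm with k' | k' | k' | k' | k'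
      · exact absurd k' hAS1
      · exact absurd k' hASA
      · exact absurd (k'.trans h'.symm) hASS
      · exact Or.inl ⟨h'.symm, k'.symm⟩
      · exact absurd k' (hnotBk AS (Or.inr (by rw [has, hzval, hAz, one_mul])))
    · rcases (hmem AS).1 hASm with k' | k' | k' | k' | k'
      · exact absurd k' hAS1
      · exact absurd k' hASA
      · exact Or.inr ⟨k'.symm, h'.symm⟩
      · exact absurd (k'.trans h'.symm) hASS
      · exact absurd k' (hnotBk AS (Or.inr (by rw [has, hzval, hAz, one_mul])))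
    · exact absurd h' (hnotBk Sg (Or.inl (by rw [hsg, hzval])))
  have hsplit : ∀ G : Cfsg.IrrCharacter X → ℂ, ∑ χ ∈ BlockCol.pBlock M X, G χ =
      G CfsgLib.Char.principalIrr + G A + G Sg + G AS + ∑ k ∈ Finset.Ico 1 h, G (Bk k) := by
    intro G
    rw [hsum G]
    rcases hCD with ⟨rfl, rfl⟩ | ⟨rfl, rfl⟩ <;> ring
  obtain ⟨x, m, hxpos, hx1, hAτ⟩ := exists_value_invol A hoτ
  obtain ⟨x', m', -, hx1', hAz'⟩ := exists_value_invol A (orderOf_J S.d)
  have hxx : x' = x := by exact_mod_cast (hx1'.symm.trans hx1)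
  subst hxx
  have hez : e = (x' : ℤ) - 2 * m' := by exact_mod_cast (hAz.symm.trans hAz')
  have hodd : Odd x' := by
    rw [Nat.odd_iff]
    rcases he with rfl | rfl <;> omega
  -- the column at `τ`
  have hcol := BlockCol.sum_sq_of_complement hM (x := τ) ⟨1, by rw [hoτ, pow_one]⟩ K hK (k := 2)
    (by rw [hidx]; norm_num)
  rw [hsplit, hidx] at hcol
  simp only [hsg, has, CfsgLib.Char.principalIrr_apply, S.signHom_not_mem S.hτ, hAτ,
    Complex.mul_conj, map_one, map_neg, map_mul, mul_one, map_intCast] at hcol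
  set a : ℤ := (x' : ℤ) - 2 * m with ha
  have ha1 : 1 ≤ a * a := by
    have : a ≠ 0 := by
      obtain ⟨c, hc⟩ := hodd
      omega
    exact mul_self_pos.2 this
  have hB0 : ∀ k ∈ Finset.Ico 1 h, (Bk k : X → ℂ) τ = 0 := by
    have hre := congrArg Complex.re hcol
    simp [Complex.normSq_apply] at hre
    have hpos : (0 : ℝ) ≤ ∑ k ∈ Finset.Ico 1 h, Complex.normSq ((Bk k : X → ℂ) τ) :=
      Finset.sum_nonneg fun k _ => Complex.normSq_nonneg _
    have ha' : (1 : ℝ) ≤ (a : ℝ) * (a : ℝ) := by exact_mod_cast ha1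
    simp only [Complex.normSq_apply] at hpos
    have h0 : ∑ k ∈ Finset.Ico 1 h, Complex.normSq ((Bk k : X → ℂ) τ) = 0 := by
      simp only [Complex.normSq_apply]
      nlinarith
    intro k hk
    exact Complex.normSq_eq_zero.1
      ((Finset.sum_eq_zero_iff_of_nonneg fun k _ => Complex.normSq_nonneg _).1 h0 k hk)
  have haa : (a : ℂ) * (a : ℂ) = 1 := by
    rw [Finset.sum_eq_zero fun k hk => by rw [hB0 k hk, map_zero, Complex.ofReal_zero]] at hcol
    push_cast at hcol
    linear_combination (1 / 2 : ℂ) * hcol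
  -- the count
  have hcount := S.block_count hM K hK hidx
  rw [hsplit, Finset.sum_eq_zero fun k hk => by rw [hB0 k hk]; simp] at hcount
  simp only [hsg, has, CfsgLib.Char.principalIrr_apply, S.signHom_not_mem S.hτ, hzval,
    S.signHom_mem L.one_mem, hAτ, hAz, hx1] at hcount
  have hx0 : (x' : ℂ) ≠ 0 := Nat.cast_ne_zero.2 (by omega)
  set t := numFix L τ with ht
  set F := fib σ τ h 1 with hF
  have hkey : (2 : ℤ) * ((t : ℤ) * t) * x' = ((t : ℤ) * t + t * (h * F)) * (x' + e) := by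
    have : (2 : ℂ) * ((t : ℂ) * t) * x' = ((t : ℂ) * t + t * (h * F)) * (x' + e) := by
      have hZ : (numInv L : ℂ) = (t : ℂ) * t + t * (h * F) := by
        rw [S.numInv_eq]; push_cast; ring
      rw [hZ] at hcount
      field_simp at hcount
      linear_combination (-(1 : ℂ) / 2) * hcount +
        ((t : ℂ) * t + t * (h * F)) * (e : ℂ) * haa
    exact_mod_cast this
  have htpos : 0 < t := by
    rw [ht, numFix]
    exact Nat.card_pos_iff.2 ⟨⟨⟨σ ^ h, S.inner_z, S.z_comm_tau.symm⟩⟩, inferInstance⟩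
  have hkey' : (2 : ℤ) * t * x' = ((t : ℤ) + h * F) * (x' + e) := by
    refine mul_left_cancel₀ (show (t : ℤ) ≠ 0 by exact_mod_cast htpos.ne') ?_
    linear_combination hkey
  have hF0 : 0 < F := by
    rw [hF, fib]
    refine Nat.card_pos_iff.2 ⟨⟨⟨1, ?_⟩⟩, inferInstance⟩
    simpa using refl_sq S.d 1
  by_contra hle
  push Not at hle
  have hz1 : x' = 1 → False := fun hx => by
    obtain ⟨φ, hφ⟩ := CfsgLib.Char.IsCharacter.exists_linear
      (CfsgLib.Char.IsIrrCharacter.isCharacter A.2) (by rw [hx1, hx, Nat.cast_one])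
    have hez1 : (e : ℂ) = 1 := by rw [← hAz, hφ, S.linear_z φ, Units.val_one]
    have he1 : e = 1 := by exact_mod_cast hez1
    have : (1 : ℤ) ≤ F := by exact_mod_cast hF0
    have : (t : ℤ) ≤ F := by exact_mod_cast hle
    have : (2 : ℤ) ≤ h := by exact_mod_cast h2
    rw [hx, he1] at hkey'
    push_cast at hkey'
    nlinarith
  have hx3 : x' = 3 ∧ e = -1 := by
    have : (1 : ℤ) ≤ F := by exact_mod_cast hF0
    have : (t : ℤ) ≤ F := by exact_mod_cast hle
    have : (2 : ℤ) ≤ h := by exact_mod_cast h2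
    have : (1 : ℤ) ≤ x' := by exact_mod_cast hxpos
    have hnn : (0 : ℤ) ≤ (x' : ℤ) - e := by rcases he with rfl | rfl <;> omega
    have hnn2 : (0 : ℤ) ≤ (x' : ℤ) + e := by rcases he with rfl | rfl <;> omega
    have h1 : (t : ℤ) * (x' - e) = h * F * (x' + e) := by linear_combination hkey'
    have h2 : 2 * (F : ℤ) * (x' + e) ≤ (F : ℤ) * (x' - e) := by
      calc 2 * (F : ℤ) * (x' + e) ≤ h * F * (x' + e) := by gcongr
        _ = (t : ℤ) * (x' - e) := h1.symm
        _ ≤ _ := by gcongr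
    have h3 : 2 * ((x' : ℤ) + e) ≤ x' - e :=
      le_of_mul_le_mul_left (a := (F : ℤ)) (by linarith) (by linarith)
    obtain ⟨c, hc⟩ := hodd
    have hx1' : x' ≠ 1 := hz1
    rcases he with rfl | rfl <;> omega
  obtain ⟨hx3, he1⟩ := hx3
  have hk1 : (1 : ℕ) ∈ Finset.Ico 1 h := Finset.mem_Ico.2 ⟨le_rfl, by omega⟩
  have hdeg := (hreg 1 (by rw [orderOf_one]; omega)).2 1 hk1
  have hBz := (hval h S.d.pos (by omega)).2.2.2 1 hk1
  rw [one_mul, hζh] at hBz
  rw [hx1, hx3, he1] at hdeg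
  rw [he1] at hBz
  have hd2 : (Bk 1 : X → ℂ) 1 = 2 := by push_cast at hdeg; linear_combination hdeg
  have := S.degree_eq_one (Bk 1) (by rw [hBz, hd2]; norm_num)
  rw [hd2] at this
  norm_num at this

/-- A subgroup containing `C_L(τ)` and `C_L(zτ)` contains `L`. -/
theorem le_of_centralizers (S : Setting P σ τ h L) {b : ℕ} (hb : h = 2 ^ b) (N : Subgroup X)
    (h1 : ∀ x ∈ L, Commute x τ → x ∈ N) (h2 : ∀ x ∈ L, Commute x (σ ^ h * τ) → x ∈ N) :
    L ≤ N := by
  classical
  by_contra hne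
  have hzN : σ ^ h ∈ N := h1 _ S.z_mem S.z_comm_tau.symm
  by_cases hr : ∃ r, Inner L r ∧ Commute r (σ ^ h) ∧ r ∉ N
  · obtain ⟨r, hr, -, hrN⟩ := hr
    have hle := S.numInv_le h1 h2
    have hc := S.card_inClass_le h1 h2 hr hrN
    rw [S.numInv_eq] at hle
    have hlt := S.fib_lt_numFix hb
    have htt : numFix L τ * numFix L τ ≤ fib σ τ h 1 * numFix L τ := by omega
    exact absurd (Nat.le_of_mul_le_mul_right htt (by omega)) (not_le.2 hlt)
  push Not at hr
  have hcls : ∀ {x}, InClass N (σ ^ h) x → x ∈ N := by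
    rintro _ ⟨n, hn, rfl⟩
    exact mul_mem (mul_mem hn hzN) (inv_mem hn)
  have hall : ∀ i, Inner L i → i ∈ N := by
    intro i hi
    rcases S.dichotomy hi with ⟨j, ⟨hj, hjτ⟩, hij⟩ | ⟨j, ⟨hj, hjτ⟩, hij⟩
    · obtain ⟨c, hc, hcj⟩ := S.inClass_of_fix h1 hj hjτ
      have h' := hr (c⁻¹ * i * c) (by simpa using S.inner_conj c⁻¹ hi) (by
        have := hij.map (MulAut.conj c⁻¹)
        rw [← hcj, MulAut.conj_apply, MulAut.conj_apply, inv_inv] at this
        rwa [show c⁻¹ * (c * σ ^ h * c⁻¹) * c = σ ^ h by group] at this)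
      have := mul_mem (mul_mem hc h') (inv_mem hc)
      simpa [mul_assoc] using this
    · exact hcls (S.inClass_of_second h1 h2 hi hj hjτ hij)
  refine hne ?_
  haveI : (Subgroup.closure {x : X | Inner L x}).Normal :=
    ⟨fun n hn g => by
      induction hn using Subgroup.closure_induction with
      | mem y hy => exact Subgroup.subset_closure (S.inner_conj g hy)
      | one => simp
      | mul a b _ _ ha hb => rw [← conj_mul]; exact mul_mem ha hb
      | inv a _ ha => rw [← conj_inv]; exact inv_mem ha⟩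
  exact (S.le_of_z_mem (Subgroup.closure {x : X | Inner L x})
    (Subgroup.subset_closure S.inner_z)).trans
    ((Subgroup.closure_le N).2 hall)

end Setting

end CfsgLib.FourOnDihedral
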