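import Cfsg.Agent.Lib.FourOnDihedral.Inner
import Cfsg.Agent.Lib.FourOnDihedral.Block

/-!
# A four group on a simple group with dihedral Sylow 2-subgroups

Two commuting involutions without commuting pairs of involutions in their centralisers in `L`
both act on `D = ⟨r, s⟩` by inverting `r` and exchanging the classes of reflections, so their
product acts as `1` or `z`, and in the second case `L` is generated by the two centralisers.
-/

set_option autoImplicit false
set_option maxHeartbeats 400000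
set_option linter.style.haveILetI false
set_option linter.unusedSectionVars false

namespace CfsgLib.FourOnDihedral

open CfsgLib.Invol

universe u

variable {G : Type u} [Group G] [Finite G] {L D : Subgroup G} {r s : G} {n : ℕ}

/-- No two commuting involutions of `L` in the centraliser of `a`. -/
def NoFour (L : Subgroup G) (a : G) : Prop :=
  ∀ x ∈ L, ∀ y ∈ L, orderOf x = 2 → orderOf y = 2 → Commute x y → Commute x a → Commute y a →
    x = y

namespace Gen

theorem two_dvd_orderOf_conj {g : G} (hg : orderOf g = n) {u : ℤ} (h2 : 2 ∣ n) {a : G}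
    (he : a * g * a⁻¹ = g ^ u) : Odd u := by
  by_contra hu
  rw [Int.not_odd_iff_even] at hu
  obtain ⟨c, rfl⟩ := hu
  obtain ⟨e, he2⟩ := h2
  have h1 : orderOf (a * g * a⁻¹) ∣ e := by
    rw [orderOf_dvd_iff_pow_eq_one, he, ← zpow_natCast, ← zpow_mul, ← orderOf_dvd_iff_zpow_eq_one,
      hg, he2]
    exact ⟨c, by push_cast; ring⟩
  rw [orderOf_conj, hg, he2] at h1
  have hpos : 0 < n := hg ▸ orderOf_pos g
  have := Nat.le_of_dvd (by omega) h1
  omega

/-- An involution without commuting involutions in its centraliser inverts `r` and exchanges the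
classes of reflections. -/
theorem action (S : Gen L D r s n) [L.Normal] (hsimp : IsSimpleGroup L)
    (hnc : ¬ IsMulCommutative L) {a : G} (ha : a * a = 1)
    (hnorm : ∀ d ∈ D, a * d * a⁻¹ ∈ D) (harz : a * r * a⁻¹ ∈ Subgroup.zpowers r)
    (hF : NoFour L a) :
    a ∉ L ∧ a * r * a⁻¹ = r⁻¹ ∧ ∃ i : ℤ, Odd i ∧ a * s * a⁻¹ = r ^ i * s := by
  classical
  have hai : a⁻¹ = a := inv_eq_of_mul_eq_one_right ha
  obtain ⟨hz2, hzs, hzs1, hzs2⟩ := S.zs_data
  set z := r ^ (n / 2) with hz
  have hz1 : z ≠ 1 := ne_one_of_invol S.z_order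
  have hzne : ∀ j : ℤ, z ≠ r ^ j * s := fun j e => S.refl_ne_z j e.symm
  have horefl : ∀ j : ℤ, orderOf (r ^ j * s) = 2 := fun j =>
    orderOf_eq_two (S.refl_ne_one j) (S.refl_sq j)
  obtain ⟨u, hu⟩ := Subgroup.mem_zpowers_iff.1 harz
  have haz : Commute a z := by
    have h1 : a * z * a⁻¹ ∈ Subgroup.zpowers r := by
      rw [hz, ← conj_pow]; exact pow_mem harz _
    refine mul_inv_eq_iff_eq_mul.1 ((S.rot_invol h1 ?_).resolve_left
      (fun e => hz1 (conj_eq_one_iff.1 e)))
    rw [conj_mul, hz2, mul_one, mul_inv_cancel]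
  have hnofix : ∀ j : ℤ, ¬ Commute a (r ^ j * s) := fun j hj =>
    hzne j (hF z (S.le S.z_mem) _ (S.le (S.refl_mem j)) S.z_order (horefl j)
      (S.z_comm (S.refl_mem j)).symm haz.symm hj.symm)
  have haL : a ∉ L := by
    intro haL
    by_cases ha1 : a = 1
    · exact hnofix 0 (ha1 ▸ Commute.one_left _)
    have haD : a ∈ D := S.mem_of_normalizing haL ⟨1, by rw [pow_one, orderOf_eq_two ha1 ha]⟩ hnorm
    rcases S.invol_cases haD ha1 ha with e | ⟨j, e⟩
    · exact hnofix 0 (e ▸ (S.z_comm (S.refl_mem 0)).symm)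
    · exact hnofix j (e ▸ Commute.refl _)
  obtain ⟨i, hi⟩ : ∃ i : ℤ, a * s * a⁻¹ = r ^ i * s := by
    obtain ⟨j, hj | hj⟩ := S.cases (hnorm s S.hs)
    · exfalso
      have hback : ∀ x ∈ Subgroup.zpowers r, a * x * a⁻¹ ∈ Subgroup.zpowers r := by
        intro x hx
        obtain ⟨k, rfl⟩ := Subgroup.mem_zpowers_iff.1 hx
        rw [← conj_zpow]
        exact zpow_mem harz k
      have h1 := hback _ (hj ▸ zpow_mem (Subgroup.mem_zpowers r) j : a * s * a⁻¹ ∈ _)
      rw [hai, show a * (a * s * a) * a = a * a * s * (a * a) by group, ha, one_mul, mul_one] at h1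
      exact S.not_mem h1
    · exact ⟨j, hj⟩
  have hrefl : ∀ j : ℤ, a * (r ^ j * s) * a⁻¹ = r ^ (u * j + i) * s := fun j => by
    rw [← conj_mul, ← conj_zpow, ← hu, ← zpow_mul, hi, ← mul_assoc, ← zpow_add]
  have hdvd : ∀ x y : ℤ, r ^ x = r ^ y ↔ (n : ℤ) ∣ x - y := fun x y => by
    rw [← orderOf_dvd_sub_iff_zpow_eq_zpow, S.ord]
  have hno : ∀ j : ℤ, ¬ (n : ℤ) ∣ (u - 1) * j + i := fun j hj => hnofix j
    (mul_inv_eq_iff_eq_mul.1 (by
      rw [hrefl j]
      congr 1
      rw [hdvd]
      convert hj using 1; ring))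
  have hs2 : (n : ℤ) ∣ i * (u + 1) := by
    have h1 : a * (a * s * a⁻¹) * a⁻¹ = s := by
      rw [hai, show a * (a * s * a) * a = a * a * s * (a * a) by group, ha, one_mul, mul_one]
    rw [hi, hrefl i] at h1
    have h2 : r ^ (u * i + i) = r ^ (0 : ℤ) := by
      rw [zpow_zero]
      exact mul_right_cancel (h1.trans (one_mul s).symm)
    have h3 := (hdvd _ _).1 h2
    convert h3 using 1; ring
  obtain ⟨c, hc⟩ : Odd u := two_dvd_orderOf_conj S.ord S.even hu.symm
  obtain ⟨k, hk0, hnk⟩ := S.two_pow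
  rcases Int.even_or_odd i with hieven | hiodd
  · exfalso
    obtain ⟨d, hd⟩ := hieven
    have hk2 : 2 ≤ k := by
      by_contra hlt
      have hn : n = 2 := by rw [hnk, show k = 1 by omega, pow_one]
      exact hno 0 (by rw [hn, hd]; exact ⟨d, by push_cast; ring⟩)
    obtain ⟨k', rfl⟩ : ∃ k', k = k' + 2 := ⟨k - 2, by omega⟩
    have hn4 : (n : ℤ) = 4 * ((2 ^ k' : ℕ) : ℤ) := by rw [hnk]; push_cast; ring
    rcases Int.even_or_odd c with hceven | hcodd
    · -- `u ≡ 1 (mod 4)`
      obtain ⟨g, hg⟩ : Odd (c + 1) := hceven.add_one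
      have hcop : IsCoprime (n : ℤ) (c + 1) := by
        rw [hnk, Nat.cast_pow]
        exact IsCoprime.pow_left ⟨-g, 1, by push_cast; rw [hg]; ring⟩
      have h2i : (n : ℤ) ∣ 2 * i := by
        refine hcop.dvd_of_dvd_mul_right ?_
        rw [show 2 * i * (c + 1) = i * (u + 1) by rw [hc]; ring]
        exact hs2
      have hisq : r ^ i * r ^ i = 1 := by
        rw [← zpow_add, ← two_mul, ← orderOf_dvd_iff_zpow_eq_one, S.ord]; exact h2i
      have hri : r ^ i = z := (S.rot_invol (zpow_mem (Subgroup.mem_zpowers r) i) hisq).resolve_left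
        fun e => hno 0 (by
          rw [mul_zero, zero_add, ← S.ord]; exact orderOf_dvd_iff_zpow_eq_one.2 e)
      set q := r ^ (n / 4) with hq
      have hqD : q ∈ D := pow_mem S.hr _
      have h4 : n / 2 = 2 * (n / 4) := by
        have : 4 ∣ n := ⟨2 ^ k', by rw [hnk]; ring⟩
        omega
      have hqs : q * s * q⁻¹ = z * s := by
        have h1 := S.rot_conj ((n / 4 : ℕ) : ℤ) 0
        rw [zpow_zero, one_mul, zero_add, zpow_natCast] at h1
        rw [hq, h1, hz, ← zpow_natCast r (n / 2), h4]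
        push_cast; ring_nf
      have hws : Commute (a * q) s := mul_inv_eq_iff_eq_mul.1 (by
        calc a * q * s * (a * q)⁻¹ = a * (q * s * q⁻¹) * a⁻¹ := by group
          _ = a * z * a⁻¹ * (a * s * a⁻¹) := by rw [hqs, conj_mul]
          _ = s := by rw [haz.eq, mul_inv_cancel_right, hi, hri, ← mul_assoc, hz2, one_mul])
      have hwsq : a * q * (a * q) = z := by
        have e1 : a * q * a⁻¹ = r ^ (u * ((n / 4 : ℕ) : ℤ)) := by
          rw [hq, ← conj_pow, ← hu, zpow_mul, zpow_natCast]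
        calc a * q * (a * q) = a * q * a⁻¹ * q := by rw [hai]; group
          _ = r ^ (u * ((n / 4 : ℕ) : ℤ)) * r ^ ((n / 4 : ℕ) : ℤ) := by rw [e1, hq, zpow_natCast]
          _ = (r ^ ((n / 2 : ℕ) : ℤ)) ^ (2 * g + 1) := by
            rw [← zpow_add, ← zpow_mul, h4, hc, ← hg]
            congr 1; push_cast; ring
          _ = z := by
            rw [zpow_natCast, ← hz, zpow_add, zpow_mul, zpow_one, zpow_ofNat, pow_two, hz2,
              one_zpow, one_mul]
      exact S.no_sq_z hsimp hnc (haz.mul_left (S.z_comm hqD)) hws hwsq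
    · -- `u ≡ 3 (mod 4)`: a reflection is fixed
      obtain ⟨g, hg⟩ := hcodd
      have hcop : IsCoprime c (n : ℤ) := by
        rw [hnk, Nat.cast_pow]
        exact IsCoprime.pow_right ⟨1, -g, by push_cast; rw [hg]; ring⟩
      obtain ⟨x, y, hxy⟩ := hcop
      refine hno (-(d * x)) ⟨y * i, ?_⟩
      rw [hc, hd]
      linear_combination -(2 * d) * hxy
  · refine ⟨haL, ?_, i, hiodd, hi⟩
    obtain ⟨g, hg⟩ := hiodd
    have hcop : IsCoprime (n : ℤ) i := by
      rw [hnk, Nat.cast_pow]
      exact IsCoprime.pow_left ⟨-g, 1, by push_cast; rw [hg]; ring⟩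
    rw [← hu, ← zpow_neg_one, hdvd, sub_neg_eq_add]
    exact hcop.dvd_of_dvd_mul_left hs2

/-- The centralisers of `a` and `z a` generate `L`. -/
theorem le_of_shift (S : Gen L D r s n) [L.Normal] (hsimp : IsSimpleGroup L)
    (hnc : ¬ IsMulCommutative L) {a : G} (ha : a * a = 1) (hnorm : ∀ d ∈ D, a * d * a⁻¹ ∈ D)
    (haL : a ∉ L) {i : ℤ} (hi : Odd i)
    (has : a * s * a⁻¹ = r ^ i * s) (N : Subgroup G)
    (h1 : ∀ x ∈ L, Commute x a → x ∈ N)
    (h2 : ∀ x ∈ L, Commute x (r ^ (n / 2) * a) → x ∈ N) : L ≤ N := by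
  classical
  have : Fact (Nat.Prime 2) := ⟨Nat.prime_two⟩
  have hai : a⁻¹ = a := inv_eq_of_mul_eq_one_right ha
  obtain ⟨hz2, -, -, -⟩ := S.zs_data
  set z := r ^ (n / 2) with hz
  have AL : Adj L a := ⟨fun x hx => ‹L.Normal›.conj_mem x hx a, ha.symm ▸ one_mem L, haL⟩
  have AD : Adj D a := ⟨hnorm, ha.symm ▸ one_mem D, fun hm => haL (S.le hm)⟩
  set X := adjoin AL with hX
  have hAX : adjoin AD ≤ X := fun x hx => hx.imp (fun h => S.le h) (fun h => S.le h)
  obtain ⟨k', hk'⟩ := S.pgroup.exists_card_eq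
  have hADp : IsPGroup 2 (adjoin AD) := IsPGroup.of_card (n := k' + 1) (by
    rw [card_adjoin, hk', pow_succ'])
  obtain ⟨P, hP⟩ := (hADp.comap_of_injective X.subtype Subtype.val_injective :
    IsPGroup 2 ((adjoin AD).subgroupOf X)).exists_le_sylow
  have hidx : L.relIndex X = 2 := index_adjoin AL
  have hPeq : (adjoin AD).subgroupOf X = (P : Subgroup X) := by
    refine Subgroup.eq_of_le_of_card_ge hP ?_
    set Q := (P : Subgroup X).map X.subtype with hQ
    have hQX : Q ≤ X := by rintro _ ⟨x, -, rfl⟩; exact x.2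
    have h1 := S.maxi (L ⊓ Q) inf_le_left ((P.2.map _).to_le inf_le_right)
    have h2 : (L.subgroupOf Q).index ≤ 2 := by
      show L.relIndex Q ≤ 2
      rw [← hidx]
      exact Subgroup.relIndex_le_of_le_right hQX (by rw [hidx]; norm_num)
    rw [Nat.card_congr (Subgroup.subgroupOfEquivOfLe hAX).toEquiv, card_adjoin,
      ← Subgroup.card_map_of_injective X.subtype_injective, ← hQ,
      ← (L.subgroupOf Q).card_mul_index]
    have h3 : Nat.card (L.subgroupOf Q) = Nat.card (L ⊓ Q : Subgroup G) := by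
      rw [← Subgroup.inf_subgroupOf_right]
      exact Nat.card_congr (Subgroup.subgroupOfEquivOfLe inf_le_right).toEquiv
    rw [h3, mul_comm 2]
    exact Nat.mul_le_mul h1 h2
  set σ : X := ⟨a * s, mul_mem (self_mem_adjoin AL) (le_adjoin AL (S.le S.hs))⟩ with hσ
  set τ : X := ⟨a, self_mem_adjoin AL⟩ with hτ
  have hσ2 : a * s * (a * s) = r ^ i := by
    calc a * s * (a * s) = a * s * a⁻¹ * s := by rw [hai]; group
      _ = r ^ i := by rw [has, mul_assoc, S.sq, mul_one]
  have hoi : orderOf (r ^ i) = n := by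
    refine Nat.dvd_antisymm (S.ord ▸ orderOf_dvd_of_mem_zpowers ⟨i, rfl⟩) ?_
    have h0 : r ^ (i * (orderOf (r ^ i) : ℤ)) = 1 := by
      rw [zpow_mul, zpow_natCast, pow_orderOf_eq_one]
    rw [← orderOf_dvd_iff_zpow_eq_one, S.ord] at h0
    obtain ⟨g, hg⟩ := hi
    obtain ⟨k, -, hnk⟩ := S.two_pow
    have hcop : IsCoprime (n : ℤ) i := by
      rw [hnk, Nat.cast_pow]
      exact IsCoprime.pow_left ⟨-g, 1, by push_cast; rw [hg]; ring⟩
    exact_mod_cast hcop.dvd_of_dvd_mul_left h0
  have hasL : a * s ∉ L := fun hm => haL ((L.mul_mem_cancel_right (S.le S.hs)).1 hm)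
  have hoσ : orderOf (a * s) = 2 * n := by
    have h2 : (a * s) ^ 2 = r ^ i := by rw [pow_two, hσ2]
    have hd : 2 ∣ orderOf (a * s) := by
      by_contra hne
      obtain ⟨j, hj⟩ : Odd (orderOf (a * s)) := Nat.odd_iff.2 (by omega)
      refine hasL ?_
      have e : a * s = (r ^ i) ^ (j + 1) := by
        rw [← h2, ← pow_mul, show 2 * (j + 1) = orderOf (a * s) + 1 by omega, pow_succ,
          pow_orderOf_eq_one, one_mul]
      rw [e]
      exact pow_mem (zpow_mem (S.le S.hr) i) _
    obtain ⟨j, hj⟩ := hd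
    rw [← h2, orderOf_pow' _ two_ne_zero, hj, Nat.gcd_mul_right_left,
      Nat.mul_div_cancel_left j two_pos] at hoi
    omega
  have hσP : σ ∈ P := by
    show σ ∈ (P : Subgroup X)
    rw [← hPeq]
    exact mul_mem (self_mem_adjoin AD) (le_adjoin AD S.hs)
  have hτP : τ ∈ P := by
    show τ ∈ (P : Subgroup X)
    rw [← hPeq]
    exact self_mem_adjoin AD
  have d : DihPairs.DihData P σ τ n :=
    { hσ := hσP
      hτ := hτP
      ord := by rw [hσ, Subgroup.orderOf_mk, hoσ]
      card := by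
        rw [← hPeq, Nat.card_congr (Subgroup.subgroupOfEquivOfLe hAX).toEquiv, card_adjoin, S.card]
        ring
      inv := Subtype.ext (by
        show a * (a * s) * a⁻¹ = (a * s)⁻¹
        rw [← mul_assoc, ha, one_mul, mul_inv_rev, S.s_inv])
      sq := Subtype.ext ha
      not_mem := fun hm => by
        have hm' : a ∈ Subgroup.zpowers (a * s) := by
          obtain ⟨j, hj⟩ := Subgroup.mem_zpowers_iff.1 hm
          refine Subgroup.mem_zpowers_iff.2 ⟨j, ?_⟩
          have := congrArg Subtype.val hj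
          simpa [hσ, hτ] using this
        have hmid := eq_middle hm' (orderOf_eq_two (fun e => haL (e ▸ one_mem L)) ha)
        rw [hoσ, Nat.mul_div_cancel_left n two_pos] at hmid
        refine haL ?_
        rw [hmid]
        obtain ⟨e, he⟩ := S.even
        rw [he, pow_mul, pow_two, hσ2]
        exact pow_mem (zpow_mem (S.le S.hr) i) e
      pos := S.pos }
  set eq : L.subgroupOf X ≃* L := Subgroup.subgroupOfEquivOfLe (le_adjoin AL)
  have hS : Setting P σ τ n (L.subgroupOf X) :=
    { d := d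
      even := S.even
      normal := inferInstance
      index := hidx
      simple := by
        haveI := hsimp
        haveI : Nontrivial (L.subgroupOf X) := eq.toEquiv.nontrivial
        exact IsSimpleGroup.isSimpleGroup_of_surjective eq.symm.toMonoidHom eq.symm.surjective
      noncomm := fun h => hnc ⟨⟨fun x y => by
        have := congrArg eq (h.1.1 (eq.symm x) (eq.symm y))
        simpa using this⟩⟩
      hσ := hasL
      hτ := haL }
  obtain ⟨k, -, hnk⟩ := S.two_pow
  have hσn : ((σ ^ n : X) : G) = z := by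
    rw [Subgroup.coe_pow]
    show (a * s) ^ n = z
    obtain ⟨e, he⟩ := S.even
    rw [he, pow_mul, pow_two, hσ2, hz, he, Nat.mul_div_cancel_left e two_pos, ← zpow_natCast,
      ← zpow_mul, ← zpow_natCast r e, ← orderOf_dvd_sub_iff_zpow_eq_zpow, S.ord, he]
    obtain ⟨g, rfl⟩ := hi
    exact ⟨g, by push_cast; ring⟩
  have key := hS.le_of_centralizers hnk (N.subgroupOf X)
    (fun x hx hc => h1 _ hx (congrArg Subtype.val hc))
    (fun x hx hc => h2 _ hx (by
      have := congrArg Subtype.val hc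
      simp only [Subgroup.coe_mul, hσn, hτ] at this
      exact this))
  exact fun x hx => key (show (⟨x, le_adjoin AL hx⟩ : X) ∈ L.subgroupOf X from hx)

/-- The product of the two involutions centralises `L`. -/
theorem product_centralizes (S : Gen L D r s n) [L.Normal] (hsimp : IsSimpleGroup L)
    (hnc : ¬ IsMulCommutative L) {a b : G} (ha : a * a = 1) (hb : b * b = 1) (hab : Commute a b)
    (hna : ∀ d ∈ D, a * d * a⁻¹ ∈ D) (hnb : ∀ d ∈ D, b * d * b⁻¹ ∈ D)
    (har : a * r * a⁻¹ ∈ Subgroup.zpowers r) (hbr : b * r * b⁻¹ ∈ Subgroup.zpowers r)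
    (hFa : NoFour L a) (hFb : NoFour L b)
    (N : Subgroup G) (h1 : ∀ x ∈ L, Commute x a → x ∈ N) (h2 : ∀ x ∈ L, Commute x b → x ∈ N)
    (hN : ¬ L ≤ N) : ∀ l ∈ L, Commute (a * b) l := by
  classical
  obtain ⟨haL, ha', i, hi, has⟩ := S.action hsimp hnc ha hna har hFa
  obtain ⟨-, hb', j, hj, hbs⟩ := S.action hsimp hnc hb hnb hbr hFb
  have hai : a⁻¹ = a := inv_eq_of_mul_eq_one_right ha
  have hbi : b⁻¹ = b := inv_eq_of_mul_eq_one_right hb
  obtain ⟨hz2, -, -, -⟩ := S.zs_data
  set z := r ^ (n / 2) with hz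
  set t := a * b with ht
  have hta : Commute t a := (Commute.refl a).mul_left hab.symm
  have htt : t * t = 1 := by
    calc a * b * (a * b) = a * (b * a) * b := by group
      _ = a * a * (b * b) := by rw [← hab.eq]; group
      _ = 1 := by rw [ha, hb, one_mul]
  have hrefl : ∀ (x : G), x * r * x⁻¹ = r⁻¹ → ∀ m : ℤ, x * r ^ m * x⁻¹ = r ^ (-m) := fun x hx m =>
    conj_zpow_of_inverts hx m
  have htr : ∀ m : ℤ, t * r ^ m * t⁻¹ = r ^ m := fun m => by
    calc t * r ^ m * t⁻¹ = a * (b * r ^ m * b⁻¹) * a⁻¹ := by rw [ht]; group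
      _ = r ^ m := by rw [hrefl b hb' m, hrefl a ha' (-m), neg_neg]
  have hts : t * s * t⁻¹ = r ^ (i - j) * s := by
    calc t * s * t⁻¹ = a * (b * s * b⁻¹) * a⁻¹ := by rw [ht]; group
      _ = a * r ^ j * a⁻¹ * (a * s * a⁻¹) := by rw [hbs, conj_mul]
      _ = r ^ (i - j) * s := by
        rw [hrefl a ha' j, has, ← mul_assoc, ← zpow_add, neg_add_eq_sub]
  have hts' : t * s * t⁻¹ = r ^ (j - i) * s := by
    calc t * s * t⁻¹ = b * a * s * (b * a)⁻¹ := by rw [ht, hab.eq]
      _ = b * (a * s * a⁻¹) * b⁻¹ := by group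
      _ = b * r ^ i * b⁻¹ * (b * s * b⁻¹) := by rw [has, conj_mul]
      _ = r ^ (j - i) * s := by
        rw [hrefl b hb' i, hbs, ← mul_assoc, ← zpow_add, neg_add_eq_sub]
  obtain ⟨k, hk⟩ : Even (i - j) := hi.sub_odd hj
  set e := r ^ k with he
  have heD : e ∈ D := zpow_mem S.hr k
  have hes : e * s * e⁻¹ = r ^ (i - j) * s := by
    have := S.rot_conj k 0
    rw [zpow_zero, one_mul, zero_add] at this
    rw [he, this, hk, two_mul]
  have he4 : e * e * (e * e) = 1 := by
    have h := mul_right_cancel (hts.symm.trans hts')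
    rw [show j - i = -(i - j) by ring, zpow_neg, ← mul_eq_one_iff_eq_inv, hk, zpow_add] at h
    exact h
  have het : Commute e t := (mul_inv_eq_iff_eq_mul.1 (htr k)).symm
  set w := e⁻¹ * t with hw
  have hwD : ∀ d ∈ D, Commute w d := by
    have hwr : ∀ m : ℤ, Commute w (r ^ m) := fun m =>
      (((Commute.refl r).zpow_left k).zpow_right m).inv_left.mul_left
        (mul_inv_eq_iff_eq_mul.1 (htr m))
    have hws : Commute w s := mul_inv_eq_iff_eq_mul.1 (by
      calc w * s * w⁻¹ = e⁻¹ * (t * s * t⁻¹) * e := by rw [hw]; group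
        _ = s := by rw [hts, ← hes]; group)
    intro d hd
    obtain ⟨m, rfl | rfl⟩ := S.cases hd
    · exact hwr m
    · exact (hwr m).mul_right hws
  have hw2 : w * w = e⁻¹ * e⁻¹ := by
    calc w * w = e⁻¹ * (t * e⁻¹) * t := by rw [hw]; group
      _ = e⁻¹ * e⁻¹ * (t * t) := by rw [← het.inv_left.eq]; group
      _ = _ := by rw [htt, mul_one]
  rcases S.rot_invol (mul_mem (zpow_mem (Subgroup.mem_zpowers r) k)
    (zpow_mem (Subgroup.mem_zpowers r) k)) he4 with e1 | e1
  swap
  · exact (S.no_sq_z hsimp hnc (hwD _ S.z_mem) (hwD s S.hs) (by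
      rw [hw2, ← mul_inv_rev, e1, inv_eq_self S.z_order])).elim
  have hei : e⁻¹ = e := inv_eq_of_mul_eq_one_right e1
  have hae : Commute a e := mul_inv_eq_iff_eq_mul.1 (by rw [hrefl a ha' k, zpow_neg, hei])
  have hwa : Commute a w := (hae.inv_right).mul_right hta.symm
  have hez : e = 1 ∨ e = z := S.rot_invol (zpow_mem (Subgroup.mem_zpowers r) k) e1
  have hz1 : z ≠ 1 := ne_one_of_invol S.z_order
  -- `t` acts as `1` or `z`
  have hcases : (∀ l ∈ L, Commute t l) ∨ ∀ l ∈ L, Commute (t * z) l := by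
    rcases S.inner_of_centralizing hsimp hnc ha ha' has hi
      (by rw [hw2, hei, e1]) hwD hwa with hwL | ⟨c, hc, hwc⟩
    · have htL : t ∈ L := by
        rw [show t = e * w by rw [hw, mul_inv_cancel_left]]
        exact mul_mem (S.le heD) hwL
      by_cases ht1 : t = 1
      · exact Or.inl fun l _ => ht1 ▸ Commute.one_left l
      have htn : ∀ d ∈ D, t * d * t⁻¹ ∈ D := fun d hd => by
        rw [show t * d * t⁻¹ = a * (b * d * b⁻¹) * a⁻¹ by rw [ht]; group]
        exact hna _ (hnb d hd)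
      have htD : t ∈ D := S.mem_of_normalizing htL
        ⟨1, by rw [pow_one, orderOf_eq_two ht1 htt]⟩ htn
      have haz : Commute a z := by
        have h := hrefl a ha' ((n / 2 : ℕ) : ℤ)
        rw [zpow_neg, zpow_natCast, ← hz, inv_eq_self S.z_order] at h
        exact mul_inv_eq_iff_eq_mul.1 h
      have htz : t = z := hFa t htL z (S.le S.z_mem) (orderOf_eq_two ht1 htt) S.z_order
        (S.z_comm htD) hta haz.symm
      exact Or.inr fun l _ => by rw [htz, hz2]; exact Commute.one_left l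
    · have hww : t = w * e := by rw [hw, het.inv_left.eq, inv_mul_cancel_right]
      rcases hez with e2 | e2 <;> rcases hc with c2 | c2 <;> rw [hww, e2] <;> subst c2
      · left; intro l hl; simpa using hwc l hl
      · right; intro l hl; simpa using hwc l hl
      · right; intro l hl
        rw [mul_assoc, hz2]
        exact hwc l hl
      · left; intro l hl; exact hwc l hl
  rcases hcases with h | h
  · exact h
  exfalso
  refine hN (S.le_of_shift hsimp hnc ha hna haL hi has N h1 fun x hx hc => h2 x hx ?_)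
  have haz : Commute a z := by
    have h := hrefl a ha' ((n / 2 : ℕ) : ℤ)
    rw [zpow_neg, zpow_natCast, ← hz, inv_eq_self S.z_order] at h
    exact mul_inv_eq_iff_eq_mul.1 h
  have htz : Commute t z := by
    have h := htr ((n / 2 : ℕ) : ℤ)
    rw [zpow_natCast, ← hz] at h
    exact mul_inv_eq_iff_eq_mul.1 h
  have hb' : b = z * a * (t * z) := by
    calc b = a * a * b := by rw [ha, one_mul]
      _ = a * t * (z * z) := by rw [ht, hz2, mul_one, mul_assoc]
      _ = a * (t * z) * z := by group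
      _ = a * (z * t) * z := by rw [htz.eq]
      _ = a * z * (t * z) := by group
      _ = _ := by rw [haz.eq]
  rw [hb']
  exact hc.mul_right (h x hx).symm

end Gen

end CfsgLib.FourOnDihedral
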