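import Cfsg.Agent.Lib.FourOnDihedral.Basic

/-!
# Counting involutions

`Z` involutions of `L`, `t` of them commuting with `τ`, and `R = h F` commuting with and
different from `z`.  Pairs of an outer and an inner involution give `Z = t ^ 2 + t h F`, and a
subgroup containing both `C_L(τ)` and `C_L(zτ)` gives `Z ≤ t F + t h F` unless it is `L`.
-/

set_option autoImplicit false
set_option maxHeartbeats 400000
set_option linter.style.haveILetI false
set_option linter.unusedSectionVars false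

namespace CfsgLib.FourOnDihedral

open CfsgLib.Invol CfsgLib.Invol.DihPairs

universe u

variable {X : Type u} [Group X] [Finite X]

/-- Involutions of `L`. -/
def Inner (L : Subgroup X) (x : X) : Prop := x ∈ L ∧ orderOf x = 2

/-- Involutions outside `L`. -/
def Outer (L : Subgroup X) (x : X) : Prop := x ∉ L ∧ x * x = 1

/-- The number of involutions of `L`. -/
noncomputable def numInv (L : Subgroup X) : ℕ := Nat.card {x : X // Inner L x}

/-- The number of involutions of `L` commuting with `τ`. -/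
noncomputable def numFix (L : Subgroup X) (τ : X) : ℕ :=
  Nat.card {x : X // Inner L x ∧ Commute x τ}

variable {P : Sylow 2 X} {σ τ : X} {h : ℕ} {L : Subgroup X}

namespace Setting

theorem inner_iff {x : X} : Inner L x ↔ x ∈ L ∧ x ≠ 1 ∧ x * x = 1 :=
  ⟨fun hx => ⟨hx.1, ne_one_of_invol hx.2, mul_self_eq_one hx.2⟩,
    fun hx => ⟨hx.1, orderOf_eq_two hx.2.1 hx.2.2⟩⟩

theorem inner_conj (S : Setting P σ τ h L) (g : X) {x : X} (hx : Inner L x) :
    Inner L (g * x * g⁻¹) :=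
  ⟨S.normal.conj_mem x hx.1 g, by rw [orderOf_conj]; exact hx.2⟩

theorem inner_z (S : Setting P σ τ h L) : Inner L (σ ^ h) := ⟨S.z_mem, orderOf_J S.d⟩

/-- The involutions of `C(z)` with reflection part of a given parity. -/
theorem card_refl_part (S : Setting P σ τ h L) (ε : ℕ) :
    Nat.card {x : X // x * x = 1 ∧ ∃ o ∈ core (σ ^ h), ∃ i, i % 2 = ε % 2 ∧
      x = o * (σ ^ i * τ)} = h * fib σ τ h ε := by
  classical
  set ε' := ε % 2 with hε
  have hε2 : ε' < 2 := Nat.mod_lt _ two_pos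
  let f : (Σ i : Fin h, {o : core (σ ^ h) //
      (o : X) * (σ ^ (2 * (i : ℕ) + ε') * τ) * ((o : X) * (σ ^ (2 * (i : ℕ) + ε') * τ)) = 1}) →
      {x : X // x * x = 1 ∧ ∃ o ∈ core (σ ^ h), ∃ i, i % 2 = ε' ∧ x = o * (σ ^ i * τ)} := fun p =>
    ⟨(p.2.1 : X) * (σ ^ (2 * (p.1 : ℕ) + ε') * τ), p.2.2, p.2.1, p.2.1.2, 2 * (p.1 : ℕ) + ε',
      by omega, rfl⟩
  have hf : Function.Bijective f := by
    refine ⟨?_, ?_⟩
    · rintro ⟨i, a⟩ ⟨i', a'⟩ e
      obtain ⟨e1, e2⟩ := decomp_unique S.d a.1.2 a'.1.2 (refl_mem S.d _) (refl_mem S.d _)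
        (congrArg Subtype.val e)
      obtain rfl : i = i' := Fin.ext (by
        have := pow_injOn_Iio_orderOf (x := σ) (by rw [Set.mem_Iio, S.d.ord]; omega)
          (by rw [Set.mem_Iio, S.d.ord]; omega) (mul_right_cancel e2)
        simp only at this
        omega)
      obtain rfl : a = a' := Subtype.ext (Subtype.ext e1)
      rfl
    · rintro ⟨x, hx, o, ho, i, hi, rfl⟩
      have hmod : σ ^ i = σ ^ (2 * (i % (2 * h) / 2) + ε') := by
        have h2 : i % (2 * h) % 2 = i % 2 := Nat.mod_mul_right_mod _ _ _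
        rw [show 2 * (i % (2 * h) / 2) + ε' = i % (2 * h) by omega, ← S.d.ord, pow_mod_orderOf]
      have hlt : i % (2 * h) / 2 < h := by
        have := Nat.mod_lt i (show 0 < 2 * h by have := S.d.pos; omega)
        omega
      exact ⟨⟨⟨i % (2 * h) / 2, hlt⟩, ⟨o, ho⟩, by rw [← hmod]; exact hx⟩,
        Subtype.ext (by simp only [f]; rw [← hmod])⟩
  rw [← Nat.card_eq_of_bijective f hf, Nat.card_sigma]
  have hconst : ∀ i : Fin h, Nat.card {o : core (σ ^ h) //
      (o : X) * (σ ^ (2 * (i : ℕ) + ε') * τ) * ((o : X) * (σ ^ (2 * (i : ℕ) + ε') * τ)) = 1} =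
      fib σ τ h ε := fun i => by
    show fib σ τ h _ = _
    rw [fib_mod S.d, fib_mod S.d ε]
    congr 1
    omega
  rw [Finset.sum_congr rfl fun i _ => hconst i, Finset.sum_const, Finset.card_univ,
    Fintype.card_fin, smul_eq_mul]

theorem comm_z_of_part (S : Setting P σ τ h L) {o : X} (ho : o ∈ core (σ ^ h)) (i : ℕ) :
    Commute (o * (σ ^ i * τ)) (σ ^ h) :=
  Commute.mul_left (Subgroup.mem_centralizer_singleton_iff.1 (core_le _ ho))
    (comm_J S.d (refl_mem S.d i))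

/-- The involutions of `L` commuting with and different from `z`. -/
theorem card_around_z (S : Setting P σ τ h L) :
    Nat.card {x : X // Inner L x ∧ Commute x (σ ^ h) ∧ x ≠ σ ^ h} = h * fib σ τ h 1 := by
  rw [← S.card_refl_part 1]
  refine Nat.card_congr (Equiv.subtypeEquivRight fun x => ⟨?_, ?_⟩)
  · rintro ⟨hx, hc, hne⟩
    obtain ⟨hL, h1, h2⟩ := inner_iff.1 hx
    obtain ⟨o, ho, i, -, rfl⟩ := (invol_cases S.d hc h1 h2).resolve_left hne
    exact ⟨h2, o, ho, i, Nat.odd_iff.1 ((S.part_mem_iff ho i).1 hL), rfl⟩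
  · rintro ⟨h2, o, ho, i, hi, rfl⟩
    have hne : ∀ j, o * (σ ^ i * τ) ≠ σ ^ j := fun j e =>
      refl_ne S.d i j (decomp_unique S.d ho (one_mem _) (refl_mem S.d i) (pow_mem S.d.hσ j)
        (e.trans (one_mul _).symm)).2
    exact ⟨inner_iff.2 ⟨(S.part_mem_iff ho i).2 (Nat.odd_iff.2 hi),
      fun e => hne 0 (e.trans (pow_zero σ).symm), h2⟩, S.comm_z_of_part ho i, hne h⟩

/-- The outer involutions commuting with `z`. -/
theorem card_outer_around_z (S : Setting P σ τ h L) :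
    Nat.card {x : X // Outer L x ∧ Commute x (σ ^ h)} = h * fib σ τ h 0 := by
  rw [← S.card_refl_part 0]
  refine Nat.card_congr (Equiv.subtypeEquivRight fun x => ⟨?_, ?_⟩)
  · rintro ⟨⟨hL, h2⟩, hc⟩
    obtain ⟨o, ho, i, -, rfl⟩ := (invol_cases S.d hc (fun e => hL (e ▸ one_mem L)) h2).resolve_left
      (fun e => hL (e ▸ S.z_mem))
    exact ⟨h2, o, ho, i, Nat.even_iff.1 (Nat.not_odd_iff_even.1
      (fun hi => hL ((S.part_mem_iff ho i).2 hi))), rfl⟩
  · rintro ⟨h2, o, ho, i, hi, rfl⟩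
    exact ⟨⟨fun hm => by
      have := Nat.odd_iff.1 ((S.part_mem_iff ho i).1 hm)
      omega, h2⟩, S.comm_z_of_part ho i⟩

/-- The middle power of a product of two involutions. -/
noncomputable def mid (p : X × X) : X := (p.1 * p.2) ^ (orderOf (p.1 * p.2) / 2)

theorem even_order (S : Setting P σ τ h L) {u v : X} (hu : Outer L u) (hv : Inner L v) :
    Even (orderOf (u * v)) := by
  by_contra hne
  have := S.mem_of_odd_order (Nat.not_even_iff_odd.1 hne)
  exact hu.1 ((S.mul_mem_iff.1 this).2 hv.1)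

theorem dichotomy (S : Setting P σ τ h L) {i : X} (hi : Inner L i) :
    (∃ j, (Inner L j ∧ Commute j τ) ∧ Commute i j) ∨
      ∃ j, (Inner L j ∧ Commute j τ) ∧ Commute i (τ * j) := by
  have hev := S.even_order (u := τ) ⟨S.hτ, S.d.sq⟩ hi
  obtain ⟨hm1, hm2⟩ := middle_commute S.d.sq (mul_self_eq_one hi.2) hev
  have hmo := middle_orderOf hev (orderOf_pos (τ * i))
  set m := (τ * i) ^ (orderOf (τ * i) / 2)
  by_cases hm : m ∈ L
  · exact Or.inl ⟨m, ⟨⟨hm, hmo⟩, hm1⟩, hm2.symm⟩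
  by_cases he : m = τ
  · exact Or.inl ⟨i, ⟨hi, (he ▸ hm2).symm⟩, Commute.refl i⟩
  have hc : Commute (τ * m) τ := (Commute.refl τ).mul_left hm1
  refine Or.inr ⟨τ * m, ⟨inner_iff.2 ⟨S.mul_mem_iff.2 (iff_of_false S.hτ hm), ?_, ?_⟩, hc⟩, ?_⟩
  · intro e
    exact he ((eq_inv_of_mul_eq_one_right e).trans (inv_eq_of_mul_eq_one_right S.d.sq))
  · rw [show τ * m * (τ * m) = τ * τ * (m * m) by
      rw [mul_assoc τ m, ← mul_assoc m τ, hm1.eq]; group, S.d.sq, mul_self_eq_one hmo, one_mul]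
  · rw [← mul_assoc, S.d.sq, one_mul]; exact hm2.symm

variable (N : Subgroup X)

/-- Conjugate to `z` in `N`. -/
def InClass (z : X) (x : X) : Prop := ∃ n ∈ N, n * z * n⁻¹ = x

variable {N}

theorem inClass_inner (S : Setting P σ τ h L) {x : X} (hx : InClass N (σ ^ h) x) : Inner L x := by
  obtain ⟨n, -, rfl⟩ := hx
  exact S.inner_conj n S.inner_z

/-- The second case of the dichotomy lies in the class of `z` in `N`. -/
theorem inClass_of_second (S : Setting P σ τ h L)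
    (h1 : ∀ x ∈ L, Commute x τ → x ∈ N) (h2 : ∀ x ∈ L, Commute x (σ ^ h * τ) → x ∈ N)
    {i j : X} (hi : Inner L i) (hj : Inner L j) (hjτ : Commute j τ) (hij : Commute i (τ * j)) :
    InClass N (σ ^ h) i := by
  obtain ⟨c, hcL, hcτ, hcj⟩ := S.conj_in_centralizer hj.1 (ne_one_of_invol hj.2)
    (mul_self_eq_one hj.2) hjτ
  set f := MulAut.conj c⁻¹ with hf
  have hfe : f (τ * j) = σ ^ h * τ := by
    rw [map_mul, ← S.z_comm_tau.eq, hf, MulAut.conj_apply, MulAut.conj_apply, inv_inv,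
      mul_assoc c⁻¹ τ c, ← hcτ.eq, inv_mul_cancel_left, ← hcj]
    group
  have hi' : Inner L (f i) := by rw [hf, MulAut.conj_apply]; exact S.inner_conj _ hi
  obtain ⟨d, hdL, hdτ, hd⟩ := S.conj_in_centralizer_shift hi'.1 (ne_one_of_invol hi'.2)
    (mul_self_eq_one hi'.2) (hfe ▸ hij.map f)
  refine ⟨c * d, mul_mem (h1 c hcL hcτ) (h2 d hdL hdτ), ?_⟩
  calc c * d * σ ^ h * (c * d)⁻¹ = c * (d * σ ^ h * d⁻¹) * c⁻¹ := by group
    _ = i := by rw [hd, hf, MulAut.conj_apply]; group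

theorem inClass_of_fix (S : Setting P σ τ h L) (h1 : ∀ x ∈ L, Commute x τ → x ∈ N)
    {j : X} (hj : Inner L j) (hjτ : Commute j τ) : InClass N (σ ^ h) j := by
  obtain ⟨c, hcL, hcτ, hcj⟩ := S.conj_in_centralizer hj.1 (ne_one_of_invol hj.2)
    (mul_self_eq_one hj.2) hjτ
  exact ⟨c, h1 c hcL hcτ, hcj⟩

/-- The involutions are covered by the class of `z` in `N` and the centralisers of the fixed
involutions. -/
theorem numInv_le (S : Setting P σ τ h L)
    (h1 : ∀ x ∈ L, Commute x τ → x ∈ N) (h2 : ∀ x ∈ L, Commute x (σ ^ h * τ) → x ∈ N) :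
    numInv L ≤ Nat.card {x : X // InClass N (σ ^ h) x} + numFix L τ * (h * fib σ τ h 1) := by
  classical
  rw [← S.card_around_z, numFix, numInv, ← Nat.card_prod, ← Nat.card_sum]
  have hg : ∀ j : {x : X // Inner L x ∧ Commute x τ}, ∃ g : X, g * σ ^ h * g⁻¹ = j := fun j => by
    obtain ⟨g, -, hg⟩ := S.one_class j.2.1.1 (ne_one_of_invol j.2.1.2) (mul_self_eq_one j.2.1.2)
    exact ⟨g, hg⟩
  choose g hg using hg
  have key : ∀ x : {x : X // Inner L x}, ∃ q : {x : X // InClass N (σ ^ h) x} ⊕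
      ({x : X // Inner L x ∧ Commute x τ} ×
        {x : X // Inner L x ∧ Commute x (σ ^ h) ∧ x ≠ σ ^ h}),
      (x : X) = Sum.elim (fun c : {x : X // InClass N (σ ^ h) x} => (c : X))
        (fun p : {x : X // Inner L x ∧ Commute x τ} ×
          {x : X // Inner L x ∧ Commute x (σ ^ h) ∧ x ≠ σ ^ h} =>
            g p.1 * (p.2 : X) * (g p.1)⁻¹) q := by
    rintro ⟨x, hx⟩
    by_cases hN : InClass N (σ ^ h) x
    · exact ⟨Sum.inl ⟨x, hN⟩, rfl⟩
    rcases S.dichotomy hx with ⟨j, hj, hxj⟩ | ⟨j, ⟨hj, hjτ⟩, hxj⟩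
    swap
    · exact absurd (S.inClass_of_second h1 h2 hx hj hjτ hxj) hN
    set a := g ⟨j, hj⟩
    have ha : a * σ ^ h * a⁻¹ = j := hg ⟨j, hj⟩
    refine ⟨Sum.inr (⟨j, hj⟩, ⟨a⁻¹ * x * a, ?_, ?_, ?_⟩), ?_⟩
    · simpa using S.inner_conj a⁻¹ hx
    · have := hxj.map (MulAut.conj a⁻¹)
      rw [← ha, MulAut.conj_apply, MulAut.conj_apply, inv_inv] at this
      rwa [show a⁻¹ * (a * σ ^ h * a⁻¹) * a = σ ^ h by group] at this
    · intro e
      refine hN ?_
      have : x = j := by rw [← ha, ← e]; group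
      exact this ▸ S.inClass_of_fix h1 hj.1 hj.2
    · show x = a * (a⁻¹ * x * a) * a⁻¹
      group
  choose q hq using key
  exact Nat.card_le_card_of_injective q fun a b e => Subtype.ext (by rw [hq a, hq b, e])

/-- Involutions of `N` commuting with an involution outside `N` have one reflection part. -/
theorem same_part (S : Setting P σ τ h L) (f : X ≃* X) {r j₁ j₂ : X}
    (hr : r ∉ N) (hfr : f r = σ ^ h)
    (hj₁ : j₁ ∈ N) (hj₂ : j₂ ∈ N) (ho₁ : orderOf j₁ = 2) (ho₂ : orderOf j₂ = 2)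
    (hc₁ : Commute j₁ r) (hc₂ : Commute j₂ r)
    {o₁ o₂ : X} {i₁ i₂ : ℕ} (hw₁ : o₁ ∈ core (σ ^ h)) (hw₂ : o₂ ∈ core (σ ^ h))
    (e₁ : f j₁ = o₁ * (σ ^ i₁ * τ)) (e₂ : f j₂ = o₂ * (σ ^ i₂ * τ)) :
    σ ^ i₁ * τ = σ ^ i₂ * τ := by
  by_cases hne : j₁ = j₂
  · subst hne
    exact (decomp_unique S.d hw₁ hw₂ (refl_mem S.d _) (refl_mem S.d _) (e₁.symm.trans e₂)).2
  obtain ⟨w, hw, ew⟩ := mul_decomp S.d (s' := σ ^ i₂ * τ) hw₁ hw₂ (refl_mem S.d i₁)
  rw [← e₁, ← e₂, ← map_mul] at ew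
  have hsP : σ ^ i₁ * τ * (σ ^ i₂ * τ) ∈ (P : Subgroup X) :=
    mul_mem (refl_mem S.d _) (refl_mem S.d _)
  rcases Nat.even_or_odd (orderOf (j₁ * j₂)) with hev | hodd
  swap
  · obtain ⟨w', hw', ew'⟩ := pow_decomp S.d hw hsP (orderOf (j₁ * j₂))
    rw [← ew, ← map_pow, pow_orderOf_eq_one, map_one, ← one_mul (1 : X)] at ew'
    have hs := (decomp_unique S.d (one_mem _) hw' (one_mem _) (pow_mem hsP _) ew').2.symm
    have : Fact (Nat.Prime 2) := ⟨Nat.prime_two⟩
    obtain ⟨k, hk⟩ := IsPGroup.iff_orderOf.1 P.2 ⟨_, hsP⟩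
    rw [Subgroup.orderOf_mk] at hk
    have h1 := Nat.eq_one_of_dvd_coprimes
      ((Nat.coprime_two_left.2 hodd).pow_left k) (hk ▸ dvd_rfl) (orderOf_dvd_of_pow_eq_one hs)
    rw [eq_inv_of_mul_eq_one_left (orderOf_eq_one_iff.1 h1),
      inv_eq_of_mul_eq_one_right (refl_sq S.d i₂)]
  exfalso
  obtain ⟨hm1, hm2⟩ := middle_commute (mul_self_eq_one ho₁) (mul_self_eq_one ho₂) hev
  have hmo := middle_orderOf hev (orderOf_pos (j₁ * j₂))
  set m := (j₁ * j₂) ^ (orderOf (j₁ * j₂) / 2)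
  have hmN : m ∈ N := pow_mem (mul_mem hj₁ hj₂) _
  have hmr : Commute m r := (hc₁.mul_left hc₂).pow_left _
  have hmz : f m * σ ^ h = σ ^ h * f m := by rw [← hfr]; exact (hmr.map f).eq
  obtain ⟨o, ho, a, -, ea⟩ := (invol_cases S.d hmz (by simpa using ne_one_of_invol hmo)
    (by rw [← map_mul, mul_self_eq_one hmo, map_one])).resolve_left
    (fun e => hr (f.injective (e.trans hfr.symm) ▸ hmN))
  have hcomm := refl_part_comm S.d hw₁ ho (e₁ ▸ ea ▸ (hm1.symm.map f))
  obtain ⟨v, hv, ev⟩ := mul_decomp S.d (s' := σ ^ a * τ) hw₁ ho (refl_mem S.d i₁)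
  rw [← e₁, ← ea, ← map_mul] at ev
  have hjm : j₁ * m ≠ 1 := fun e => by
    refine left_notMem_zpowers ho₁ ho₂ hne ?_
    have h0 : m ∈ Subgroup.zpowers (j₁ * j₂) := pow_mem (Subgroup.mem_zpowers _) _
    have h1 := inv_mem h0
    rwa [← eq_inv_of_mul_eq_one_left e] at h1
  have hjm2 : j₁ * m * (j₁ * m) = 1 := by
    calc j₁ * m * (j₁ * m) = j₁ * (m * j₁) * m := by group
      _ = (j₁ * j₁) * (m * m) := by rw [hm1.eq]; group
      _ = 1 := by rw [mul_self_eq_one ho₁, mul_self_eq_one hmo, one_mul]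
  have hz : ∀ y ∈ (P : Subgroup X), (y = 1 ∨ y = σ ^ h) → σ ^ i₁ * τ * (σ ^ a * τ) ≠ y := by
    intro y hy hy' e
    rw [e] at ev
    have hfj1 : f (j₁ * m) ≠ 1 := f.map_ne_one_iff.2 hjm
    have hfj2 : f (j₁ * m) * f (j₁ * m) = 1 := by rw [← map_mul, hjm2, map_one]
    have hfjz : f (j₁ * m) * σ ^ h = σ ^ h * f (j₁ * m) := by
      rw [← hfr]; exact ((hc₁.mul_left hmr).map f).eq
    rcases invol_cases S.d hfjz hfj1 hfj2 with e' | ⟨o', ho', b, -, e'⟩
    · exact hr (f.injective (e'.trans hfr.symm) ▸ mul_mem hj₁ hmN)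
    · have := (decomp_unique S.d hv ho' hy (refl_mem S.d b) (ev.symm.trans e')).2
      rcases hy' with rfl | rfl
      · exact refl_ne S.d b 0 (by rw [pow_zero]; exact this.symm)
      · exact refl_ne S.d b h this.symm
  rcases refl_comm S.d hcomm with e | e
  · exact hz 1 (one_mem _) (Or.inl rfl) (by rw [e, refl_sq S.d])
  · refine hz (σ ^ h) (pow_mem S.d.hσ h) (Or.inr rfl) ?_
    rw [e, ← mul_assoc, comm_J S.d (refl_mem S.d i₁), mul_assoc, refl_sq S.d, mul_one]

/-- The class of `z` in `N` has at most `t F` members. -/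
theorem card_inClass_le (S : Setting P σ τ h L)
    (h1 : ∀ x ∈ L, Commute x τ → x ∈ N)
    (h2 : ∀ x ∈ L, Commute x (σ ^ h * τ) → x ∈ N)
    {r : X} (hr : Inner L r) (hrN : r ∉ N) :
    Nat.card {x : X // InClass N (σ ^ h) x} ≤ fib σ τ h 1 * numFix L τ := by
  classical
  have hzN : σ ^ h ∈ N := h1 _ S.z_mem S.z_comm_tau.symm
  have hcls : ∀ {x}, InClass N (σ ^ h) x → x ∈ N := by
    rintro _ ⟨n, hn, rfl⟩
    exact mul_mem (mul_mem hn hzN) (inv_mem hn)
  set J := {j : X // InClass N (σ ^ h) j ∧ Commute j r}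
  set T := {x : X // Inner L x ∧ Commute x τ}
  have key : ∀ n : N, ∃ p : J × T, (n : X) * (p.2 : X) * (n : X)⁻¹ = (p.1 : X) := by
    rintro ⟨n, hn⟩
    have hx : Inner L (n⁻¹ * r * n) := by simpa using S.inner_conj n⁻¹ hr
    have hxN : n⁻¹ * r * n ∉ N := fun hm => hrN (by
      have := mul_mem (mul_mem hn hm) (inv_mem hn)
      simpa [mul_assoc] using this)
    rcases S.dichotomy hx with ⟨j, hj, hxj⟩ | ⟨j, ⟨hj, hjτ⟩, hxj⟩
    · refine ⟨(⟨n * j * n⁻¹, ?_, ?_⟩, ⟨j, hj⟩), rfl⟩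
      · obtain ⟨c, hc, rfl⟩ := S.inClass_of_fix h1 hj.1 hj.2
        exact ⟨n * c, mul_mem hn hc, by group⟩
      · have := hxj.symm.map (MulAut.conj n)
        simp only [MulAut.conj_apply] at this
        rwa [show n * (n⁻¹ * r * n) * n⁻¹ = r by group] at this
    · exact absurd (hcls (S.inClass_of_second h1 h2 hx hj hjτ hxj)) hxN
  choose φ hφ using key
  have hc : ∀ k : T, ∃ c ∈ N, c * σ ^ h * c⁻¹ = (k : X) := fun k => S.inClass_of_fix h1 k.2.1 k.2.2
  choose c hcN hc using hc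
  set C : Subgroup X := N ⊓ Subgroup.centralizer ({σ ^ h} : Set X)
  let b : J × T → N := Function.invFun φ
  have hb : ∀ n, φ (b (φ n)) = φ n := fun n => Function.invFun_eq ⟨n, rfl⟩
  have hmem : ∀ n : N, (c (φ n).2)⁻¹ * ((b (φ n) : X))⁻¹ * (n : X) * c (φ n).2 ∈ C := by
    intro n
    refine Subgroup.mem_inf.2 ⟨mul_mem (mul_mem (mul_mem (inv_mem (hcN _)) (inv_mem (b _).2)) n.2)
      (hcN _), mem_centralizer_singleton_iff'.2 ?_⟩
    have e := (hφ (b (φ n))).trans (congrArg (fun p : J × T => (p.1 : X)) (hb n))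
    rw [congrArg (fun p : J × T => (p.2 : X)) (hb n)] at e
    have e' := hφ n
    set p := φ n
    set m := (b p : X)
    calc (c p.2)⁻¹ * m⁻¹ * (n : X) * c p.2 * σ ^ h * ((c p.2)⁻¹ * m⁻¹ * (n : X) * c p.2)⁻¹
        = (c p.2)⁻¹ * m⁻¹ * ((n : X) * (c p.2 * σ ^ h * (c p.2)⁻¹) * (n : X)⁻¹) * m * c p.2 := by
          group
      _ = (c p.2)⁻¹ * m⁻¹ * (m * (p.2 : X) * m⁻¹) * m * c p.2 := by rw [hc, e', e]
      _ = (c p.2)⁻¹ * (p.2 : X) * c p.2 := by group
      _ = σ ^ h := by rw [← hc]; group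
  have hinj : Function.Injective (fun n : N => (φ n, (⟨_, hmem n⟩ : C))) := by
    intro n n' e
    obtain ⟨e1, e2⟩ := Prod.mk.inj e
    have e3 := congrArg Subtype.val e2
    simp only [e1] at e3
    exact Subtype.ext (mul_left_cancel (mul_right_cancel e3))
  have hle := Nat.card_le_card_of_injective _ hinj
  rw [Nat.card_prod, Nat.card_prod, ← card_orbit_mul N (σ ^ h)] at hle
  refine (Nat.le_of_mul_le_mul_right hle Nat.card_pos).trans (Nat.mul_le_mul_right _ ?_)
  obtain ⟨g, -, hg⟩ := S.one_class hr.1 (ne_one_of_invol hr.2) (mul_self_eq_one hr.2)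
  set f := MulAut.conj g⁻¹ with hf
  have hfr : f r = σ ^ h := by rw [hf, MulAut.conj_apply, inv_inv, ← hg]; group
  have hJ : ∀ j : J, ∃ p : X × ℕ, p.1 ∈ core (σ ^ h) ∧ Odd p.2 ∧ f j = p.1 * (σ ^ p.2 * τ) := by
    rintro ⟨j, hj, hjr⟩
    have hji := S.inClass_inner hj
    have hjz : f j * σ ^ h = σ ^ h * f j := by rw [← hfr]; exact (hjr.map f).eq
    obtain ⟨o, ho, i, -, e⟩ := (invol_cases S.d hjz (by simpa using ne_one_of_invol hji.2)
      (by rw [← map_mul, mul_self_eq_one hji.2, map_one])).resolve_left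
      (fun e => hrN (f.injective (e.trans hfr.symm) ▸ hcls hj))
    refine ⟨(o, i), ho, (S.part_mem_iff ho i).1 ?_, e⟩
    rw [← e, hf, MulAut.conj_apply]
    exact S.normal.conj_mem j hji.1 _
  choose q hq1 hq2 hq3 using hJ
  rcases isEmpty_or_nonempty J with hJe | ⟨⟨j₀⟩⟩
  · simp
  set l := (q j₀).2
  have hsame : ∀ j : J, σ ^ (q j).2 * τ = σ ^ l * τ := fun j =>
    S.same_part f hrN hfr (hcls j.2.1) (hcls j₀.2.1) (S.inClass_inner j.2.1).2
      (S.inClass_inner j₀.2.1).2 j.2.2 j₀.2.2 (hq1 j) (hq1 j₀) (hq3 j) (hq3 j₀)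
  rw [show fib σ τ h 1 = fib σ τ h l by
    rw [fib_mod S.d l, Nat.odd_iff.1 (hq2 j₀)], fib]
  refine Nat.card_le_card_of_injective (fun j : J => ⟨⟨(q j).1, hq1 j⟩, ?_⟩) ?_
  · have h2 : f (j : X) * f (j : X) = 1 := by
      rw [← map_mul, mul_self_eq_one (S.inClass_inner j.2.1).2, map_one]
    rwa [hq3 j, hsame j] at h2
  · intro j j' e
    have e' : (q j).1 = (q j').1 := congrArg (fun p => ((p.1 : core (σ ^ h)) : X)) e
    exact Subtype.ext (f.injective (by rw [hq3 j, hq3 j', hsame j, hsame j', e']))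

theorem fibre_conj (S : Setting P σ τ h L) (g m : X) :
    Nat.card {p : X × X // (Outer L p.1 ∧ Inner L p.2) ∧ mid p = g * m * g⁻¹} =
      Nat.card {p : X × X // (Outer L p.1 ∧ Inner L p.2) ∧ mid p = m} := by
  set f := MulAut.conj g with hf
  refine (Nat.card_congr (Equiv.subtypeEquiv (Equiv.prodCongr f.toEquiv f.toEquiv) fun p => ?_)).symm
  obtain ⟨u, v⟩ := p
  have hL : ∀ x, f x ∈ L ↔ x ∈ L := fun x => by
    rw [hf, MulAut.conj_apply]
    refine ⟨fun hm => ?_, fun hm => S.normal.conj_mem x hm g⟩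
    have := S.normal.conj_mem _ hm g⁻¹
    simpa [mul_assoc] using this
  have hmid : mid (f u, f v) = f (mid (u, v)) := by
    simp only [mid, map_pow, ← map_mul, MulEquiv.orderOf_eq]
  simp only [Equiv.prodCongr_apply, Prod.map_apply, MulEquiv.toEquiv_eq_coe, MulEquiv.coe_toEquiv,
    Outer, Inner, hL, hmid, ← map_mul, MulEquiv.map_eq_one_iff, MulEquiv.orderOf_eq]
  rw [← MulAut.conj_apply g m, ← hf, f.injective.eq_iff]

theorem fibre_tau (S : Setting P σ τ h L) :
    Nat.card {p : X × X // (Outer L p.1 ∧ Inner L p.2) ∧ mid p = τ} = numFix L τ * numFix L τ := by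
  rw [numFix, ← Nat.card_prod]
  symm
  refine Nat.card_eq_of_bijective (fun kv => ⟨(τ * (kv.1 : X), (kv.2 : X)), ?_⟩) ⟨?_, ?_⟩
  · obtain ⟨⟨k, hk, hkτ⟩, v, hv, hvτ⟩ := kv
    refine ⟨⟨⟨fun hm => S.hτ ((S.mul_mem_iff.1 hm).2 hk.1), ?_⟩, hv⟩, ?_⟩
    · show τ * k * (τ * k) = 1
      rw [mul_assoc τ k, ← mul_assoc k τ, hkτ.eq, ← mul_assoc, ← mul_assoc, S.d.sq, one_mul,
        mul_self_eq_one hk.2]
    have hodd : Odd (orderOf (k * v)) := by
      by_contra hne
      rw [Nat.not_odd_iff_even] at hne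
      obtain ⟨hm1, hm2⟩ := middle_commute (mul_self_eq_one hk.2) (mul_self_eq_one hv.2) hne
      have hmo := middle_orderOf hne (orderOf_pos (k * v))
      set m := (k * v) ^ (orderOf (k * v) / 2)
      have hmL : m ∈ L := pow_mem (mul_mem hk.1 hv.1) _
      have hmτ : Commute m τ := (hkτ.mul_left hvτ).pow_left _
      have e1 := S.comm_unique hk.1 hmL (ne_one_of_invol hk.2) (mul_self_eq_one hk.2)
        (ne_one_of_invol hmo) (mul_self_eq_one hmo) hkτ hmτ hm1.symm
      have e2 := S.comm_unique hv.1 hmL (ne_one_of_invol hv.2) (mul_self_eq_one hv.2)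
        (ne_one_of_invol hmo) (mul_self_eq_one hmo) hvτ hmτ hm2.symm
      rw [e1.symm.trans e2, mul_self_eq_one hv.2, orderOf_one] at hne
      exact absurd hne Nat.not_even_one
    symm
    refine eq_middle (Subgroup.mem_zpowers_iff.2 ⟨(orderOf (k * v) : ℤ), ?_⟩)
      (orderOf_eq_two S.tau_ne S.d.sq)
    show (τ * k * v) ^ ((orderOf (k * v) : ℕ) : ℤ) = τ
    obtain ⟨c, hc⟩ := hodd
    rw [zpow_natCast, mul_assoc, (hkτ.mul_left hvτ).symm.mul_pow, pow_orderOf_eq_one, mul_one, hc,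
      pow_succ, pow_mul, sq, S.d.sq, one_pow, one_mul]
  · intro a b e
    have e' := congrArg Subtype.val e
    exact Prod.ext (Subtype.ext (mul_left_cancel (congrArg Prod.fst e')))
      (Subtype.ext (congrArg Prod.snd e'))
  · rintro ⟨⟨u, v⟩, ⟨hu, hv⟩, hm⟩
    obtain ⟨c1, c2⟩ := middle_commute hu.2 (mul_self_eq_one hv.2) (S.even_order hu hv)
    change mid (u, v) = τ at hm
    have hm' : (u * v) ^ (orderOf (u * v) / 2) = τ := hm
    rw [hm'] at c1 c2
    have hne : τ * u ≠ 1 := fun e => by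
      have hu1 : u ≠ 1 := fun e' => hu.1 (e' ▸ one_mem L)
      have : u = τ := (eq_inv_of_mul_eq_one_right e).trans (inv_eq_of_mul_eq_one_right S.d.sq)
      refine left_notMem_zpowers (orderOf_eq_two hu1 hu.2) hv.2 (fun e' => hu.1 (e' ▸ hv.1)) ?_
      have h0 : (u * v) ^ (orderOf (u * v) / 2) ∈ Subgroup.zpowers (u * v) :=
        pow_mem (Subgroup.mem_zpowers _) _
      rwa [hm', ← this] at h0
    refine ⟨(⟨τ * u, inner_iff.2 ⟨S.mul_mem_iff.2 (iff_of_false S.hτ hu.1), hne, ?_⟩,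
      (Commute.refl τ).mul_left c1.symm⟩, ⟨v, hv, c2.symm⟩), ?_⟩
    · rw [mul_assoc τ u, ← mul_assoc u τ, ← c1.eq, ← mul_assoc, ← mul_assoc, S.d.sq, one_mul, hu.2]
    · apply Subtype.ext
      show (τ * (τ * u), v) = (u, v)
      rw [← mul_assoc, S.d.sq, one_mul]

theorem fibre_z (S : Setting P σ τ h L) :
    Nat.card {p : X × X // (Outer L p.1 ∧ Inner L p.2) ∧ mid p = σ ^ h} =
      h * fib σ τ h 0 * (h * fib σ τ h 1) := by
  rw [← S.card_outer_around_z, ← S.card_around_z, ← Nat.card_prod]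
  refine Nat.card_congr ((Equiv.subtypeEquivRight ?_).trans Equiv.subtypeProdEquivProd)
  rintro ⟨u, v⟩
  constructor
  · rintro ⟨⟨hu, hv⟩, hm⟩
    obtain ⟨c1, c2⟩ := middle_commute hu.2 (mul_self_eq_one hv.2) (S.even_order hu hv)
    have hm' : (u * v) ^ (orderOf (u * v) / 2) = σ ^ h := hm
    rw [hm'] at c1 c2
    refine ⟨⟨hu, c1.symm⟩, hv, c2.symm, fun e => ?_⟩
    have hu1 : u ≠ 1 := fun e' => hu.1 (e' ▸ one_mem L)
    refine left_notMem_zpowers (orderOf_eq_two hu1 hu.2) hv.2 (fun e' => hu.1 (e' ▸ hv.1)) ?_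
    have hvm : v ∈ Subgroup.zpowers (u * v) := by
      have : v = (u * v) ^ (orderOf (u * v) / 2) := e.trans hm'.symm
      have h0 : (u * v) ^ (orderOf (u * v) / 2) ∈ Subgroup.zpowers (u * v) :=
        pow_mem (Subgroup.mem_zpowers _) _
      rwa [← this] at h0
    simpa using mul_mem (Subgroup.mem_zpowers (u * v)) (inv_mem hvm)
  · rintro ⟨⟨hu, cu⟩, hv, cv, hvz⟩
    refine ⟨⟨hu, hv⟩, ?_⟩
    obtain ⟨o, ho, a, -, ea⟩ := (invol_cases S.d cu.eq (fun e => hu.1 (e ▸ one_mem L)) hu.2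
      ).resolve_left (fun e => hu.1 (e ▸ S.z_mem))
    obtain ⟨o', ho', b, -, eb⟩ := (invol_cases S.d cv.eq (ne_one_of_invol hv.2)
      (mul_self_eq_one hv.2)).resolve_left hvz
    subst ea eb
    have hb : Odd b := (S.part_mem_iff ho' b).1 hv.1
    have ha : Even a := Nat.not_odd_iff_even.1 fun hh => hu.1 ((S.part_mem_iff ho a).2 hh)
    obtain ⟨w, hw, ew⟩ := mul_decomp S.d (s' := σ ^ b * τ) ho ho' (refl_mem S.d a)
    obtain ⟨w', hw', ew'⟩ := pow_decomp S.d hw
      (mul_mem (refl_mem S.d a) (refl_mem S.d b)) h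
    have hpow : (σ ^ a * τ * (σ ^ b * τ)) ^ h = σ ^ h := by
      obtain ⟨c, hc⟩ : Odd ((a : ℤ) - b) := by
        rw [Int.odd_sub']
        exact iff_of_true (by exact_mod_cast hb) (by exact_mod_cast ha)
      rw [refl_mul_refl S.d, ← zpow_natCast σ a, ← zpow_natCast σ b, ← zpow_neg, ← zpow_add,
        ← zpow_natCast, ← zpow_mul, ← sub_eq_add_neg, hc, ← zpow_natCast σ h,
        ← orderOf_dvd_sub_iff_zpow_eq_zpow]
      exact ⟨c, by rw [S.d.ord]; push_cast; ring⟩
    rw [← ew, hpow] at ew'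
    have hcomm : Commute w' (σ ^ h) := Subgroup.mem_centralizer_singleton_iff.1 (core_le _ hw')
    have hpw : (w' * σ ^ h) ^ orderOf w' = σ ^ h := by
      obtain ⟨c, hc⟩ : Odd (orderOf w') := Nat.odd_iff.2 (by have := core_odd S.d hw'; omega)
      rw [hcomm.mul_pow, pow_orderOf_eq_one, one_mul, hc, pow_succ, pow_mul, sq,
        mul_self_eq_one (orderOf_J S.d), one_pow, one_mul]
    symm
    refine eq_middle ?_ (orderOf_J S.d)
    rw [← hpw, ← ew', ← pow_mul]
    exact pow_mem (Subgroup.mem_zpowers _) _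

/-- `Z = t ^ 2 + t h F`. -/
theorem numInv_eq (S : Setting P σ τ h L) :
    numInv L = numFix L τ * numFix L τ + numFix L τ * (h * fib σ τ h 1) := by
  classical
  cases nonempty_fintype X
  set sA := Finset.univ.filter fun x : X => Outer L x with hsA
  set sI := Finset.univ.filter fun x : X => Inner L x with hsI
  set sP := Finset.univ.filter fun p : X × X => Outer L p.1 ∧ Inner L p.2 with hsP
  have hprod : sP = sA ×ˢ sI := by
    ext p; simp [hsP, hsA, hsI]
  have hto : ∀ p ∈ sP, mid p ∈ sA ∪ sI := by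
    intro p hp
    simp only [hsP, Finset.mem_filter, Finset.mem_univ, true_and] at hp
    have hev := S.even_order hp.1 hp.2
    have ho : orderOf (mid p) = 2 := middle_orderOf hev (orderOf_pos (p.1 * p.2))
    simp only [hsA, hsI, Finset.mem_union, Finset.mem_filter, Finset.mem_univ, true_and]
    by_cases hL : mid p ∈ L
    · exact Or.inr ⟨hL, ho⟩
    · exact Or.inl ⟨hL, mul_self_eq_one ho⟩
  have hdis : Disjoint sA sI := by
    rw [Finset.disjoint_left]
    simp only [hsA, hsI, Finset.mem_filter, Finset.mem_univ, true_and]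
    exact fun x hx hx' => hx.1 hx'.1
  have hfib : ∀ m, (sP.filter fun p => mid p = m).card =
      Nat.card {p : X × X // (Outer L p.1 ∧ Inner L p.2) ∧ mid p = m} := fun m => by
    rw [hsP, Finset.filter_filter, Nat.card_eq_fintype_card, Fintype.card_subtype]
  have hA : ∀ m ∈ sA, (sP.filter fun p => mid p = m).card = numFix L τ * numFix L τ := by
    intro m hm
    simp only [hsA, Finset.mem_filter, Finset.mem_univ, true_and] at hm
    obtain ⟨g, -, rfl⟩ := S.outer_conj hm.1 hm.2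
    rw [hfib, S.fibre_conj, S.fibre_tau]
  have hI : ∀ m ∈ sI, (sP.filter fun p => mid p = m).card =
      h * fib σ τ h 0 * (h * fib σ τ h 1) := by
    intro m hm
    simp only [hsI, Finset.mem_filter, Finset.mem_univ, true_and] at hm
    obtain ⟨g, -, rfl⟩ := S.one_class hm.1 (ne_one_of_invol hm.2) (mul_self_eq_one hm.2)
    rw [hfib, S.fibre_conj, S.fibre_z]
  have hcount := Finset.card_eq_sum_card_fiberwise hto
  rw [hprod, Finset.card_product, ← hprod, Finset.sum_union hdis,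
    Finset.sum_const_nat hA, Finset.sum_const_nat hI] at hcount
  have hcI : sI.card = numInv L := by
    rw [numInv, Nat.card_eq_fintype_card, Fintype.card_subtype]
  have hoA : sA.card * Nat.card (L ⊓ Subgroup.centralizer ({τ} : Set X) : Subgroup X) =
      Nat.card L := by
    rw [← card_orbit_mul L τ, show sA.card = Nat.card {x : X // Outer L x} by
      rw [Nat.card_eq_fintype_card, Fintype.card_subtype]]
    congr 1
    refine Nat.card_congr (Equiv.subtypeEquivRight fun x => ⟨fun hx => S.outer_conj hx.1 hx.2, ?_⟩)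
    rintro ⟨g, -, rfl⟩
    refine ⟨fun hm => S.hτ ?_, by rw [conj_mul, S.d.sq, mul_one, mul_inv_cancel]⟩
    have := S.normal.conj_mem _ hm g⁻¹
    simpa [mul_assoc] using this
  have hoI : numInv L * Nat.card (L ⊓ Subgroup.centralizer ({σ ^ h} : Set X) : Subgroup X) =
      Nat.card L := by
    rw [← card_orbit_mul L (σ ^ h), numInv]
    congr 1
    refine Nat.card_congr (Equiv.subtypeEquivRight fun x =>
      ⟨fun hx => S.one_class hx.1 (ne_one_of_invol hx.2) (mul_self_eq_one hx.2), ?_⟩)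
    rintro ⟨g, -, rfl⟩
    exact S.inner_conj g S.inner_z
  set CT : Subgroup X := L ⊓ Subgroup.centralizer ({τ} : Set X) with hCT
  set CZ : Subgroup X := L ⊓ Subgroup.centralizer ({σ ^ h} : Set X) with hCZ
  set W : Subgroup X := CT ⊓ Subgroup.centralizer ({σ ^ h} : Set X) with hW
  have hoT : numFix L τ * Nat.card W = Nat.card CT := by
    rw [hW, ← card_orbit_mul CT (σ ^ h), numFix]
    congr 1
    refine Nat.card_congr (Equiv.subtypeEquivRight fun x => ⟨fun hx => ?_, ?_⟩)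
    · obtain ⟨c, hcL, hcτ, hcj⟩ := S.conj_in_centralizer hx.1.1 (ne_one_of_invol hx.1.2)
        (mul_self_eq_one hx.1.2) hx.2
      exact ⟨c, ⟨hcL, Subgroup.mem_centralizer_singleton_iff.2 hcτ.eq⟩, hcj⟩
    · rintro ⟨g, hg, rfl⟩
      have hgτ : Commute g τ := Subgroup.mem_centralizer_singleton_iff.1 hg.2
      exact ⟨S.inner_conj g S.inner_z, (hgτ.mul_left S.z_comm_tau.symm).mul_left hgτ.inv_left⟩
  -- centralisers in `X` split over `L`
  have hsplit : ∀ H : Subgroup X, τ ∈ H → Nat.card H = 2 * Nat.card (L ⊓ H : Subgroup X) := by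
    intro H hH
    have hidx : (L.subgroupOf H).index = 2 := by
      rw [Subgroup.index_eq_two_iff]
      refine ⟨⟨τ, hH⟩, fun b => ?_⟩
      simp only [Subgroup.mem_subgroupOf, Subgroup.coe_mul, S.mul_mem_iff, iff_false_right S.hτ]
      exact xor_not_left.2 Iff.rfl
    rw [← (L.subgroupOf H).card_mul_index, hidx, mul_comm, ← Subgroup.inf_subgroupOf_right,
      Nat.card_congr (Subgroup.subgroupOfEquivOfLe inf_le_right).toEquiv]
  have hzc := hsplit (Subgroup.centralizer ({σ ^ h} : Set X))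
    (Subgroup.mem_centralizer_singleton_iff.2 S.z_comm_tau.eq)
  have hcore : Nat.card (Subgroup.centralizer ({σ ^ h} : Set X)) =
      4 * h * Nat.card (core (σ ^ h)) := by
    rw [← (Cfsg.pPrimeCore 2 (Subgroup.centralizer ({σ ^ h} : Set X))).card_mul_index,
      (index_core S.d).1, core, Subgroup.card_map_of_injective (Subgroup.subtype_injective _),
      mul_comm]
  have hWW : W = L ⊓ Subgroup.centralizer ({σ ^ h, τ} : Set X) := by
    ext x
    simp only [hW, hCT, Subgroup.mem_inf, Subgroup.mem_centralizer_singleton_iff,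
      centralizer_pair_mem]
    tauto
  have hpair := fib_mul_card S.d 0
  rw [pow_zero, one_mul, hsplit (Subgroup.centralizer ({σ ^ h, τ} : Set X))
    (centralizer_pair_mem.2 ⟨S.z_comm_tau.eq, rfl⟩), ← hWW] at hpair
  rw [← hCZ] at hzc
  rw [hcI] at hcount
  -- combine
  have hL0 : 0 < Nat.card L := Nat.card_pos
  refine Nat.eq_of_mul_eq_mul_left hL0 ?_
  have hf0 : fib σ τ h 0 * Nat.card W * h = Nat.card CZ := by
    rw [hcore] at hzc
    have : 2 * (fib σ τ h 0 * Nat.card W * h) = 2 * Nat.card CZ := by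
      rw [← hzc]; linear_combination h * hpair
    omega
  calc Nat.card L * numInv L = sA.card * numInv L * Nat.card CT := by rw [← hoA]; ring
    _ = (sA.card * (numFix L τ * numFix L τ) +
          numInv L * (h * fib σ τ h 0 * (h * fib σ τ h 1))) * Nat.card CT := by rw [hcount]
    _ = sA.card * Nat.card CT * (numFix L τ * numFix L τ) + numInv L *
          (fib σ τ h 0 * Nat.card W * h) * (numFix L τ * (h * fib σ τ h 1)) := by
        rw [← hoT]; ring
    _ = _ := by rw [hf0, hoA, hoI]; ring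

end Setting

end CfsgLib.FourOnDihedral
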