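import Cfsg.Agent.Lib.FourOnDihedral.Basic
import Mathlib.GroupTheory.Transfer

/-!
# A simple normal subgroup with dihedral Sylow 2-subgroups

`D = ⟨r, s⟩` is a dihedral Sylow 2-subgroup of order `2n` of the simple normal subgroup `L`.
-/

set_option autoImplicit false
set_option maxHeartbeats 400000
set_option linter.style.haveILetI false
set_option linter.unusedSectionVars false

namespace CfsgLib.FourOnDihedral

open CfsgLib.Invol

universe u

variable {G : Type u} [Group G]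

/-- An element normalising `H` with square in `H` but outside. -/
structure Adj (H : Subgroup G) (a : G) : Prop where
  conj : ∀ x ∈ H, a * x * a⁻¹ ∈ H
  sq : a * a ∈ H
  not_mem : a ∉ H

theorem Adj.conj' {H : Subgroup G} {a : G} (A : Adj H a) {x : G} (hx : x ∈ H) :
    a⁻¹ * x * a ∈ H := by
  have := mul_mem (mul_mem (inv_mem A.sq) (A.conj x hx)) A.sq
  rwa [show (a * a)⁻¹ * (a * x * a⁻¹) * (a * a) = a⁻¹ * x * a by group] at this

/-- `H⟨a⟩` for `a` of square in `H`. -/
def adjoin {H : Subgroup G} {a : G} (A : Adj H a) : Subgroup G where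
  carrier := {x | x ∈ H ∨ x * a ∈ H}
  one_mem' := Or.inl H.one_mem
  mul_mem' := by
    rintro x y (hx | hx) (hy | hy)
    · exact Or.inl (mul_mem hx hy)
    · exact Or.inr (by rw [mul_assoc]; exact mul_mem hx hy)
    · refine Or.inr ?_
      rw [show x * y * a = x * a * (a⁻¹ * y * a) by group]
      exact mul_mem hx (A.conj' hy)
    · refine Or.inl ?_
      rw [show x * y = x * a * (a⁻¹ * (y * a) * a) * (a * a)⁻¹ by group]
      exact mul_mem (mul_mem hx (A.conj' hy)) (inv_mem A.sq)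
  inv_mem' := by
    rintro x (hx | hx)
    · exact Or.inl (inv_mem hx)
    · refine Or.inr ?_
      rw [show x⁻¹ * a = a * (x * a)⁻¹ * a⁻¹ * (a * a) by group]
      exact mul_mem (A.conj _ (inv_mem hx)) A.sq

theorem mem_adjoin {H : Subgroup G} {a : G} (A : Adj H a) {x : G} :
    x ∈ adjoin A ↔ x ∈ H ∨ x * a ∈ H := Iff.rfl

theorem le_adjoin {H : Subgroup G} {a : G} (A : Adj H a) : H ≤ adjoin A := fun _ hx => Or.inl hx

theorem self_mem_adjoin {H : Subgroup G} {a : G} (A : Adj H a) : a ∈ adjoin A := Or.inr A.sq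

theorem index_adjoin {H : Subgroup G} {a : G} (A : Adj H a) :
    (H.subgroupOf (adjoin A)).index = 2 := by
  rw [Subgroup.index_eq_two_iff]
  refine ⟨⟨a, self_mem_adjoin A⟩, fun ⟨x, hx⟩ => ?_⟩
  simp only [Subgroup.mem_subgroupOf, Subgroup.coe_mul]
  rcases hx with hx | hx
  · refine Or.inr ⟨hx, fun hm => A.not_mem ?_⟩
    simpa using mul_mem (inv_mem hx) hm
  · refine Or.inl ⟨hx, fun hm => A.not_mem ?_⟩
    simpa using mul_mem (inv_mem hm) hx

theorem card_adjoin {H : Subgroup G} {a : G} (A : Adj H a) :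
    Nat.card (adjoin A) = 2 * Nat.card H := by
  rw [← (H.subgroupOf (adjoin A)).card_mul_index, index_adjoin A,
    Nat.card_congr (Subgroup.subgroupOfEquivOfLe (le_adjoin A)).toEquiv, mul_comm]

/-- Splitting an element into its parts of odd and of two-power order. -/
theorem exists_odd_two_parts [Finite G] (g : G) :
    ∃ g' g₂ : G, g' ∈ Subgroup.zpowers g ∧ g₂ ∈ Subgroup.zpowers g ∧ g = g' * g₂ ∧
      Odd (orderOf g') ∧ ∃ k, orderOf g₂ = 2 ^ k := by
  obtain ⟨a, m, hm, hg⟩ := Nat.exists_eq_two_pow_mul_odd (orderOf_pos g).ne'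
  have hcop : Nat.Coprime (2 ^ a) m := (Nat.coprime_two_left.2 hm).pow_left a
  have hbez := Nat.gcd_eq_gcd_ab (2 ^ a) m
  rw [hcop] at hbez
  refine ⟨g ^ (((2 ^ a : ℕ) : ℤ) * Nat.gcdA (2 ^ a) m), g ^ ((m : ℤ) * Nat.gcdB (2 ^ a) m),
    ⟨_, rfl⟩, ⟨_, rfl⟩, by rw [← zpow_add, ← hbez]; simp, ?_, ?_⟩
  · have h1 : orderOf (g ^ (((2 ^ a : ℕ) : ℤ) * Nat.gcdA (2 ^ a) m)) ∣ m := by
      rw [orderOf_dvd_iff_pow_eq_one, ← zpow_natCast, ← zpow_mul,
        show ((2 ^ a : ℕ) : ℤ) * Nat.gcdA (2 ^ a) m * (m : ℤ) =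
          ((orderOf g : ℕ) : ℤ) * Nat.gcdA (2 ^ a) m by rw [hg]; push_cast; ring,
        zpow_mul, zpow_natCast, pow_orderOf_eq_one, one_zpow]
    exact hm.of_dvd_nat h1
  · have h2 : orderOf (g ^ ((m : ℤ) * Nat.gcdB (2 ^ a) m)) ∣ 2 ^ a := by
      rw [orderOf_dvd_iff_pow_eq_one, ← zpow_natCast, ← zpow_mul,
        show (m : ℤ) * Nat.gcdB (2 ^ a) m * ((2 ^ a : ℕ) : ℤ) =
          ((orderOf g : ℕ) : ℤ) * Nat.gcdB (2 ^ a) m by rw [hg]; push_cast; ring,
        zpow_mul, zpow_natCast, pow_orderOf_eq_one, one_zpow]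
    obtain ⟨k, -, hk⟩ := (Nat.dvd_prime_pow Nat.prime_two).1 h2
    exact ⟨k, hk⟩

/-- An element of odd order is a power of its square. -/
theorem mem_zpowers_sq {g : G} (hg : Odd (orderOf g)) : ∃ k : ℕ, g = (g * g) ^ k := by
  obtain ⟨c, hc⟩ := hg
  exact ⟨c + 1, by rw [← sq, ← pow_mul, show 2 * (c + 1) = orderOf g + 1 by omega, pow_succ,
    pow_orderOf_eq_one, one_mul]⟩

/-- An element of odd order fixing `x` cannot move `w` to `w x`. -/
theorem no_odd_shift {g w x : G} (hg : Odd (orderOf g)) (hx : x * x = 1)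
    (hfix : g * x * g⁻¹ = x) (hmove : g * w * g⁻¹ = w * x) : x = 1 := by
  have h2 : Commute (g * g) w := mul_inv_eq_iff_eq_mul.1 (by
    calc g * g * w * (g * g)⁻¹ = g * (g * w * g⁻¹) * g⁻¹ := by group
      _ = g * w * g⁻¹ * (g * x * g⁻¹) := by
        conv_lhs => rw [hmove]
        group
      _ = w := by rw [hmove, hfix, mul_assoc, hx, mul_one])
  obtain ⟨k, hk⟩ := mem_zpowers_sq hg
  have h1 : Commute g w := hk ▸ h2.pow_left k
  rw [h1.eq, mul_inv_cancel_right] at hmove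
  exact left_eq_mul.1 hmove

/-- An element of odd order cannot interchange two elements. -/
theorem no_odd_swap {g x y : G} (hg : Odd (orderOf g)) (h1 : g * x * g⁻¹ = y)
    (h2 : g * y * g⁻¹ = x) : x = y := by
  have hc : Commute (g * g) x := mul_inv_eq_iff_eq_mul.1 (by
    calc g * g * x * (g * g)⁻¹ = g * (g * x * g⁻¹) * g⁻¹ := by group
      _ = x := by rw [h1, h2])
  obtain ⟨k, hk⟩ := mem_zpowers_sq hg
  have h3 : Commute g x := hk ▸ hc.pow_left k
  rw [← h1, h3.eq, mul_inv_cancel_right]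

/-- A dihedral Sylow 2-subgroup of `L` with generators. -/
structure Gen (L D : Subgroup G) (r s : G) (n : ℕ) : Prop where
  le : D ≤ L
  pgroup : IsPGroup 2 D
  maxi : ∀ Q : Subgroup G, Q ≤ L → IsPGroup 2 Q → Nat.card Q ≤ Nat.card D
  hr : r ∈ D
  hs : s ∈ D
  ord : orderOf r = n
  sq : s * s = 1
  inv : s * r * s⁻¹ = r⁻¹
  not_mem : s ∉ Subgroup.zpowers r
  card : Nat.card D = 2 * n
  two_pow : ∃ k, 0 < k ∧ n = 2 ^ k

variable {L D : Subgroup G} {r s : G} {n : ℕ}

namespace Gen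

theorem even (S : Gen L D r s n) : 2 ∣ n := by
  obtain ⟨k, hk, rfl⟩ := S.two_pow
  exact dvd_pow_self 2 hk.ne'

theorem pos (S : Gen L D r s n) : 0 < n := by
  obtain ⟨k, -, rfl⟩ := S.two_pow
  exact pow_pos two_pos k

theorem s_inv (S : Gen L D r s n) : s⁻¹ = s := inv_eq_of_mul_eq_one_right S.sq

theorem s_ne_one (S : Gen L D r s n) : s ≠ 1 := fun e => S.not_mem (e ▸ one_mem _)

theorem cases [Finite G] (S : Gen L D r s n) {d : G} (hd : d ∈ D) :
    ∃ j : ℤ, d = r ^ j ∨ d = r ^ j * s := by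
  have hle : Subgroup.zpowers r ≤ D := Subgroup.zpowers_le.2 S.hr
  have hidx : ((Subgroup.zpowers r).subgroupOf D).index = 2 := by
    have h1 := ((Subgroup.zpowers r).subgroupOf D).card_mul_index
    rw [Nat.card_congr (Subgroup.subgroupOfEquivOfLe hle).toEquiv, Nat.card_zpowers, S.ord,
      S.card, mul_comm 2 n] at h1
    exact Nat.eq_of_mul_eq_mul_left S.pos h1
  by_cases hdr : d ∈ Subgroup.zpowers r
  · obtain ⟨j, rfl⟩ := Subgroup.mem_zpowers_iff.1 hdr
    exact ⟨j, Or.inl rfl⟩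
  · have hm := (Subgroup.mul_mem_iff_of_index_two hidx (a := ⟨d, hd⟩) (b := ⟨s, S.hs⟩)).2
      (iff_of_false (fun h => hdr (Subgroup.mem_subgroupOf.1 h))
        (fun h => S.not_mem (Subgroup.mem_subgroupOf.1 h)))
    obtain ⟨j, hj⟩ := Subgroup.mem_zpowers_iff.1 (Subgroup.mem_subgroupOf.1 hm)
    exact ⟨j, Or.inr (by
      show d = r ^ j * s
      rw [hj]
      show d = d * s * s
      rw [mul_assoc, S.sq, mul_one])⟩

theorem s_conj (S : Gen L D r s n) (j : ℤ) : s * r ^ j * s⁻¹ = r ^ (-j) := by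
  rw [conj_zpow_of_inverts S.inv, zpow_neg]

theorem s_mul (S : Gen L D r s n) (j : ℤ) : s * r ^ j = r ^ (-j) * s := by
  rw [← S.s_conj j, inv_mul_cancel_right]

theorem refl_sq (S : Gen L D r s n) (j : ℤ) : r ^ j * s * (r ^ j * s) = 1 := by
  rw [mul_assoc (r ^ j) s, ← mul_assoc s (r ^ j), S.s_mul, mul_assoc (r ^ (-j)), S.sq, mul_one,
    ← zpow_add, add_neg_cancel, zpow_zero]

theorem refl_not_mem (S : Gen L D r s n) (j : ℤ) : r ^ j * s ∉ Subgroup.zpowers r := fun h =>
  S.not_mem ((Subgroup.mul_mem_cancel_left _ (zpow_mem (Subgroup.mem_zpowers r) j)).1 h)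

theorem refl_mem (S : Gen L D r s n) (j : ℤ) : r ^ j * s ∈ D := mul_mem (zpow_mem S.hr j) S.hs

theorem rot_conj (S : Gen L D r s n) (k j : ℤ) :
    r ^ k * (r ^ j * s) * (r ^ k)⁻¹ = r ^ (j + 2 * k) * s := by
  calc r ^ k * (r ^ j * s) * (r ^ k)⁻¹ = r ^ k * r ^ j * (s * r ^ (-k)) := by
        rw [zpow_neg]; group
    _ = r ^ k * r ^ j * r ^ k * s := by rw [S.s_mul, neg_neg, mul_assoc _ (r ^ k) s]
    _ = _ := by rw [← zpow_add, ← zpow_add]; congr 2; ring

theorem z_order (S : Gen L D r s n) : orderOf (r ^ (n / 2)) = 2 := by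
  obtain ⟨c, hc⟩ := S.even
  rw [hc, Nat.mul_div_cancel_left c two_pos, orderOf_pow' r (by have := S.pos; omega), S.ord, hc,
    Nat.gcd_mul_left_left, Nat.mul_div_cancel _ (by have := S.pos; omega)]

theorem z_mem (S : Gen L D r s n) : r ^ (n / 2) ∈ D := pow_mem S.hr _

theorem rot_invol [Finite G] (S : Gen L D r s n) {y : G} (hy : y ∈ Subgroup.zpowers r)
    (h2 : y * y = 1) : y = 1 ∨ y = r ^ (n / 2) := by
  by_cases h1 : y = 1
  · exact Or.inl h1
  · right
    rw [← S.ord]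
    exact eq_middle hy (orderOf_eq_two h1 h2)

theorem z_comm [Finite G] (S : Gen L D r s n) {d : G} (hd : d ∈ D) :
    Commute d (r ^ (n / 2)) := by
  have hs : Commute s (r ^ (n / 2)) := by
    have h := conj_zpow_of_inverts S.inv ((n / 2 : ℕ) : ℤ)
    rw [zpow_natCast, zpow_neg, zpow_natCast, inv_eq_self S.z_order,
      mul_inv_eq_iff_eq_mul] at h
    exact h
  have hr : ∀ j : ℤ, Commute (r ^ j) (r ^ (n / 2)) := fun j =>
    ((Commute.refl r).zpow_left j).pow_right _
  obtain ⟨j, rfl | rfl⟩ := S.cases hd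
  · exact hr j
  · exact (hr j).mul_left hs

theorem refl_ne_z (S : Gen L D r s n) (j : ℤ) : r ^ j * s ≠ r ^ (n / 2) := fun e =>
  S.refl_not_mem j (e ▸ pow_mem (Subgroup.mem_zpowers r) _)

theorem refl_ne_one (S : Gen L D r s n) (j : ℤ) : r ^ j * s ≠ 1 := fun e =>
  S.refl_not_mem j (e ▸ one_mem _)

/-- An involution of `D` is `z` or a reflection. -/
theorem invol_cases [Finite G] (S : Gen L D r s n) {d : G} (hd : d ∈ D) (h1 : d ≠ 1)
    (h2 : d * d = 1) : d = r ^ (n / 2) ∨ ∃ j : ℤ, d = r ^ j * s := by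
  obtain ⟨j, rfl | rfl⟩ := S.cases hd
  · exact Or.inl ((S.rot_invol (zpow_mem (Subgroup.mem_zpowers r) j) h2).resolve_left h1)
  · exact Or.inr ⟨j, rfl⟩

/-- The centraliser in `D` of a reflection. -/
theorem centralizer_refl [Finite G] (S : Gen L D r s n) {j : ℤ} {y : G} (hy : y ∈ D)
    (hc : Commute y (r ^ j * s)) :
    y = 1 ∨ y = r ^ (n / 2) ∨ y = r ^ j * s ∨ y = r ^ (n / 2) * (r ^ j * s) := by
  have key : ∀ k : ℤ, Commute (r ^ k) (r ^ j * s) → r ^ k = 1 ∨ r ^ k = r ^ (n / 2) := by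
    intro k hk
    refine S.rot_invol (zpow_mem (Subgroup.mem_zpowers r) k) ?_
    have e := S.rot_conj k j
    rw [hk.eq, mul_inv_cancel_right] at e
    have e' := mul_right_cancel e
    rw [zpow_add, left_eq_mul, two_mul, zpow_add] at e'
    exact e'
  obtain ⟨k, rfl | rfl⟩ := S.cases hy
  · rcases key k hc with e | e
    · exact Or.inl e
    · exact Or.inr (Or.inl e)
  · have hprod : r ^ k * s * (r ^ j * s) = r ^ (k - j) := by
      rw [mul_assoc (r ^ k) s, ← mul_assoc s (r ^ j), S.s_mul, mul_assoc (r ^ (-j)), S.sq, mul_one,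
        ← zpow_add, sub_eq_add_neg]
    have hc2 : Commute (r ^ (k - j)) (r ^ j * s) := hprod ▸ hc.mul_left (Commute.refl _)
    have hk : r ^ k * s = r ^ (k - j) * (r ^ j * s) := by
      rw [← mul_assoc, ← zpow_add, sub_add_cancel]
    rcases key _ hc2 with e | e
    · exact Or.inr (Or.inr (Or.inl (by rw [hk, e, one_mul])))
    · exact Or.inr (Or.inr (Or.inr (by rw [hk, e])))

/-- Two distinct commuting involutions of `D` generate their centraliser in `D`. -/
theorem four_self [Finite G] (S : Gen L D r s n) {p q y : G} (hp : p ∈ D) (hq : q ∈ D)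
    (hy : y ∈ D) (hp1 : p ≠ 1) (hq1 : q ≠ 1) (hp2 : p * p = 1) (hq2 : q * q = 1) (hne : p ≠ q)
    (hpq : Commute p q) (hyp : Commute y p) (hyq : Commute y q) :
    y = 1 ∨ y = p ∨ y = q ∨ y = p * q := by
  have key : ∀ p q : G, q ∈ D → q ≠ 1 → q * q = 1 → p ≠ q → Commute p q → Commute y p →
      Commute y q → ∀ j : ℤ, p = r ^ j * s → y = 1 ∨ y = p ∨ y = q ∨ y = p * q := by
    rintro p q hq hq1 hq2 hne hpq hyp hyq j rfl
    rcases S.centralizer_refl hq hpq.symm with e | e | e | e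
    · exact absurd e hq1
    · subst e
      rcases S.centralizer_refl hy hyp with e' | e' | e' | e'
      · exact Or.inl e'
      · exact Or.inr (Or.inr (Or.inl e'))
      · exact Or.inr (Or.inl e')
      · exact Or.inr (Or.inr (Or.inr (by rw [e', (S.z_comm (S.refl_mem j)).eq])))
    · exact absurd e.symm hne
    · subst e
      rcases S.centralizer_refl hy hyp with e' | e' | e' | e'
      · exact Or.inl e'
      · refine Or.inr (Or.inr (Or.inr ?_))
        rw [e', ← mul_assoc, (S.z_comm (S.refl_mem j)).eq, mul_assoc, S.refl_sq, mul_one]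
      · exact Or.inr (Or.inl e')
      · exact Or.inr (Or.inr (Or.inl e'))
  rcases S.invol_cases hp hp1 hp2 with e | ⟨j, e⟩
  · rcases S.invol_cases hq hq1 hq2 with e' | ⟨j, e'⟩
    · exact absurd (e.trans e'.symm) hne
    · rcases key q p hp hp1 hp2 hne.symm hpq.symm hyq hyp j e' with h | h | h | h
      · exact Or.inl h
      · exact Or.inr (Or.inr (Or.inl h))
      · exact Or.inr (Or.inl h)
      · exact Or.inr (Or.inr (Or.inr (by rw [h, hpq.eq])))
  · exact key p q hq hq1 hq2 hne hpq hyp hyq j e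

theorem exists_sylow [Finite G] (S : Gen L D r s n) :
    ∃ Q : Sylow 2 L, (Q : Subgroup L) = D.subgroupOf L := by
  obtain ⟨Q, hQ⟩ := (S.pgroup.comap_of_injective L.subtype Subtype.val_injective :
    IsPGroup 2 (D.subgroupOf L)).exists_le_sylow
  refine ⟨Q, (Subgroup.eq_of_le_of_card_ge hQ ?_).symm⟩
  have h1 := S.maxi ((Q : Subgroup L).map L.subtype) (by
    rintro _ ⟨x, -, rfl⟩; exact x.2) (Q.2.map _)
  rwa [Subgroup.card_map_of_injective L.subtype_injective,
    ← Nat.card_congr (Subgroup.subgroupOfEquivOfLe S.le).toEquiv] at h1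

theorem exists_conj_le [Finite G] (S : Gen L D r s n) (Q : Subgroup G) (hQL : Q ≤ L)
    (hQ : IsPGroup 2 Q) : ∃ g ∈ L, ∀ x ∈ Q, g * x * g⁻¹ ∈ D := by
  have : Fact (Nat.Prime 2) := ⟨Nat.prime_two⟩
  obtain ⟨P, hP⟩ := S.exists_sylow
  obtain ⟨R, hR⟩ := (hQ.comap_of_injective L.subtype Subtype.val_injective :
    IsPGroup 2 (Q.subgroupOf L)).exists_le_sylow
  obtain ⟨g, hg⟩ := MulAction.exists_smul_eq L R P
  refine ⟨g, g.2, fun x hx => ?_⟩
  have h := Subgroup.smul_mem_pointwise_smul (⟨x, hQL hx⟩ : L) (MulAut.conj g) (R : Subgroup L)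
    (hR (Subgroup.mem_subgroupOf.2 hx))
  have h' : g * ⟨x, hQL hx⟩ * g⁻¹ ∈ (P : Subgroup L) := by rw [← hg]; exact h
  rw [hP] at h'
  exact Subgroup.mem_subgroupOf.1 h'

/-- A 2-element of `L` normalising `D` lies in `D`. -/
theorem mem_of_normalizing [Finite G] (S : Gen L D r s n) {g : G} (hgL : g ∈ L)
    (hord : ∃ k, orderOf g = 2 ^ k) (hn : ∀ d ∈ D, g * d * g⁻¹ ∈ D) : g ∈ D := by
  have : Fact (Nat.Prime 2) := ⟨Nat.prime_two⟩
  obtain ⟨k, hk⟩ := hord
  have hN : Subgroup.zpowers g ≤ Subgroup.normalizer (D : Set G) :=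
    Subgroup.zpowers_le.2 (Subgroup.mem_normalizer_fintype hn)
  have hsup : IsPGroup 2 ((Subgroup.zpowers g ⊔ D : Subgroup G)) :=
    (IsPGroup.of_card (n := k) (by rw [Nat.card_zpowers, hk])).to_sup_of_normal_right' S.pgroup hN
  have h1 := S.maxi _ (sup_le (Subgroup.zpowers_le.2 hgL) S.le) hsup
  have h2 : D = Subgroup.zpowers g ⊔ D := Subgroup.eq_of_le_of_card_ge le_sup_right h1
  exact h2 ▸ Subgroup.mem_sup_left (Subgroup.mem_zpowers g)

/-- The reflections are conjugate to `z` in `L`. -/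
theorem refl_conj_z [Finite G] (S : Gen L D r s n) (hsimp : IsSimpleGroup L)
    (hnc : ¬ IsMulCommutative L) (j : ℤ) :
    ∃ g ∈ L, g * r ^ (n / 2) * g⁻¹ = r ^ j * s := by
  have : Fact (Nat.Prime 2) := ⟨Nat.prime_two⟩
  haveI := hsimp
  by_contra hno
  obtain ⟨P, hP⟩ := S.exists_sylow
  have hu : r ^ j * s ∈ L := S.le (S.refl_mem j)
  obtain ⟨M, hMn, hMi, -⟩ := CfsgLib.ThompsonTransfer.exists_normal_index_two
    (D.subgroupOf L) ((Subgroup.zpowers r).subgroupOf L)
    (by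
      rw [← hP]
      exact Nat.odd_iff.2 (by have := P.not_dvd_index; omega))
    (by
      rw [Subgroup.relIndex_subgroupOf S.le]
      have e1 := ((Subgroup.zpowers r).subgroupOf D).card_mul_index
      rw [Nat.card_congr (Subgroup.subgroupOfEquivOfLe (Subgroup.zpowers_le.2 S.hr)).toEquiv,
        Nat.card_zpowers, S.ord, S.card, mul_comm 2 n] at e1
      exact Nat.eq_of_mul_eq_mul_left S.pos e1)
    ⟨r ^ j * s, hu⟩ (Subtype.ext (by
      rw [Subgroup.coe_pow, pow_two, Subgroup.coe_one]; exact S.refl_sq j))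
    (fun g hg => hno ⟨(g : G)⁻¹, inv_mem g.2, by
      have hz := Subgroup.mem_subgroupOf.1 hg
      have e : (g : G) * (r ^ j * s) * (g : G)⁻¹ = r ^ (n / 2) :=
        (S.rot_invol hz (by
          show (g : G) * (r ^ j * s) * (g : G)⁻¹ * ((g : G) * (r ^ j * s) * (g : G)⁻¹) = 1
          rw [conj_mul, S.refl_sq j, mul_one, mul_inv_cancel])).resolve_left
          (fun e => S.refl_ne_one j (conj_eq_one_iff.1 e))
      rw [← e]; group⟩)
  rcases hMn.eq_bot_or_eq_top with e | e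
  · rw [e, Subgroup.index_bot] at hMi
    haveI : IsCyclic L := isCyclic_of_prime_card (p := 2) hMi
    exact hnc ⟨⟨fun a b => IsCyclic.commGroup.mul_comm a b⟩⟩
  · rw [e, Subgroup.index_top] at hMi
    omega

/-- The 2-elements of `L` centralising `z` and a reflection. -/
theorem four_central [Finite G] (S : Gen L D r s n) {x : G} (hx : x ∈ L)
    (hord : ∃ k, orderOf x = 2 ^ k) (hxz : Commute x (r ^ (n / 2))) (hxs : Commute x s) :
    x = 1 ∨ x = r ^ (n / 2) ∨ x = s ∨ x = r ^ (n / 2) * s := by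
  have : Fact (Nat.Prime 2) := ⟨Nat.prime_two⟩
  have hp : ∀ y : G, (∃ k, orderOf y = 2 ^ k) → IsPGroup 2 (Subgroup.zpowers y) := fun y hy => by
    obtain ⟨k, hk⟩ := hy
    exact IsPGroup.of_card (n := k) (by rw [Nat.card_zpowers, hk])
  have hzs : Commute s (r ^ (n / 2)) := S.z_comm S.hs
  set V := Subgroup.zpowers s ⊔ Subgroup.zpowers (r ^ (n / 2)) with hV
  have hcomm : ∀ {y w : G}, Commute y w →
      Subgroup.zpowers y ≤ Subgroup.normalizer ((Subgroup.zpowers w : Subgroup G) : Set G) := by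
    intro y w h
    refine Subgroup.zpowers_le.2 (Subgroup.mem_normalizer_fintype fun d hd => ?_)
    obtain ⟨k, rfl⟩ := Subgroup.mem_zpowers_iff.1 hd
    rw [(h.zpow_right k).eq, mul_inv_cancel_right]
    exact zpow_mem (Subgroup.mem_zpowers w) k
  have hVp : IsPGroup 2 V := (hp s ⟨1, by rw [pow_one, orderOf_eq_two S.s_ne_one S.sq]⟩
    ).to_sup_of_normal_right' (hp _ ⟨1, by rw [pow_one, S.z_order]⟩) (hcomm hzs)
  have hxV : ∀ d ∈ V, Commute x d := by
    have hle : V ≤ Subgroup.centralizer ({x} : Set G) := sup_le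
      (Subgroup.zpowers_le.2 (Subgroup.mem_centralizer_singleton_iff.2 hxs.symm.eq))
      (Subgroup.zpowers_le.2 (Subgroup.mem_centralizer_singleton_iff.2 hxz.symm.eq))
    intro d hd
    exact (Subgroup.mem_centralizer_singleton_iff.1 (hle hd)).symm
  have hQp : IsPGroup 2 (Subgroup.zpowers x ⊔ V : Subgroup G) :=
    (hp x hord).to_sup_of_normal_right' hVp (Subgroup.zpowers_le.2
      (Subgroup.mem_normalizer_fintype fun d hd => by
        rw [(hxV d hd).eq, mul_inv_cancel_right]; exact hd))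
  have hQL : Subgroup.zpowers x ⊔ V ≤ L := sup_le (Subgroup.zpowers_le.2 hx)
    (sup_le (Subgroup.zpowers_le.2 (S.le S.hs)) (Subgroup.zpowers_le.2 (S.le S.z_mem)))
  obtain ⟨g, -, hg⟩ := S.exists_conj_le _ hQL hQp
  set f := MulAut.conj g
  have hzm : r ^ (n / 2) ∈ Subgroup.zpowers x ⊔ V :=
    Subgroup.mem_sup_right (Subgroup.mem_sup_right (Subgroup.mem_zpowers _))
  have hsm : s ∈ Subgroup.zpowers x ⊔ V :=
    Subgroup.mem_sup_right (Subgroup.mem_sup_left (Subgroup.mem_zpowers _))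
  have hne : r ^ (n / 2) ≠ s := fun e => S.not_mem (e ▸ pow_mem (Subgroup.mem_zpowers r) _)
  have hz1 := ne_one_of_invol S.z_order
  rcases S.four_self (p := f (r ^ (n / 2))) (q := f s) (y := f x) (hg _ hzm) (hg _ hsm)
    (hg x (Subgroup.mem_sup_left (Subgroup.mem_zpowers x))) (f.map_ne_one_iff.2 hz1)
    (f.map_ne_one_iff.2 S.s_ne_one) (by rw [← map_mul, mul_self_eq_one S.z_order, map_one])
    (by rw [← map_mul, S.sq, map_one]) (f.injective.ne hne) (hzs.symm.map f) (hxz.map f)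
    (hxs.map f) with e | e | e | e
  · exact Or.inl (f.injective (e.trans f.map_one.symm))
  · exact Or.inr (Or.inl (f.injective e))
  · exact Or.inr (Or.inr (Or.inl (f.injective e)))
  · exact Or.inr (Or.inr (Or.inr (f.injective (e.trans (map_mul f _ _).symm))))

/-- An element of `L` permuting `z`, `s`, `z s` cyclically. -/
theorem exists_cycle [Finite G] (S : Gen L D r s n) [L.Normal] (hsimp : IsSimpleGroup L)
    (hnc : ¬ IsMulCommutative L) :
    ∃ m ∈ L, m * r ^ (n / 2) * m⁻¹ = s ∧ m * s * m⁻¹ = r ^ (n / 2) * s ∧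
      m * (r ^ (n / 2) * s) * m⁻¹ = r ^ (n / 2) := by
  classical
  have : Fact (Nat.Prime 2) := ⟨Nat.prime_two⟩
  set z := r ^ (n / 2) with hz
  have hzs : Commute s z := S.z_comm S.hs
  have hzne : z ≠ s := fun e => S.not_mem (e ▸ pow_mem (Subgroup.mem_zpowers r) _)
  have hz2 : z * z = 1 := mul_self_eq_one S.z_order
  -- enough to know two images
  have finish : ∀ m ∈ L, m * z * m⁻¹ = s → m * s * m⁻¹ = z * s →
      ∃ m ∈ L, m * z * m⁻¹ = s ∧ m * s * m⁻¹ = z * s ∧ m * (z * s) * m⁻¹ = z := by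
    intro m hm h1 h2
    refine ⟨m, hm, h1, h2, ?_⟩
    calc m * (z * s) * m⁻¹ = m * z * m⁻¹ * (m * s * m⁻¹) := conj_mul.symm
      _ = s * z * s := by rw [h1, h2, mul_assoc]
      _ = z := by rw [hzs.eq, mul_assoc, S.sq, mul_one]
  obtain ⟨g, hgL, hg⟩ := S.refl_conj_z hsimp hnc 0
  rw [zpow_zero, one_mul, ← hz] at hg
  rcases Nat.lt_or_ge 2 n with hn2 | hn2
  · obtain ⟨k, hk, hnk⟩ := S.two_pow
    have h4 : 4 ∣ n := by
      rcases k with _ | _ | k
      · omega
      · simp [hnk] at hn2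
      · exact ⟨2 ^ k, by rw [hnk, pow_succ, pow_succ]; ring⟩
    set q := r ^ (n / 4) with hq
    have hqD : q ∈ D := pow_mem S.hr _
    have hqz : q * z * q⁻¹ = z := by rw [(S.z_comm hqD).eq, mul_inv_cancel_right]
    have hswap : ∀ j : ℤ, q * (r ^ j * s) * q⁻¹ = z * (r ^ j * s) := fun j => by
      rw [hq, ← zpow_natCast, S.rot_conj, hz, ← zpow_natCast, ← mul_assoc, ← zpow_add]
      congr 2
      push_cast
      obtain ⟨c, rfl⟩ := h4
      omega
    -- an involution commuting with `s` other than `s`, inside a Sylow subgroup of `C(s)`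
    set D' := D.map (MulAut.conj g).toMonoidHom with hD'
    have hD's : D' ≤ L ⊓ Subgroup.centralizer ({s} : Set G) := by
      rintro _ ⟨d, hd, rfl⟩
      show g * d * g⁻¹ ∈ _
      refine ⟨(‹L.Normal›).conj_mem d (S.le hd) g,
        Subgroup.mem_centralizer_singleton_iff.2 ?_⟩
      rw [← hg]
      exact ((Commute.conj_iff g).2 (S.z_comm hd)).eq
    set C := L ⊓ Subgroup.centralizer ({s} : Set G) with hC
    obtain ⟨R, hR⟩ := ((S.pgroup.map (MulAut.conj g).toMonoidHom).comap_of_injective C.subtype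
      Subtype.val_injective : IsPGroup 2 (D'.subgroupOf C)).exists_le_sylow
    have hReq : D'.subgroupOf C = (R : Subgroup C) := by
      refine Subgroup.eq_of_le_of_card_ge hR ?_
      have h1 := S.maxi ((R : Subgroup C).map C.subtype) (by
        rintro _ ⟨x, -, rfl⟩; exact x.2.1) (R.2.map _)
      rw [Subgroup.card_map_of_injective C.subtype_injective] at h1
      refine h1.trans (le_of_eq ?_)
      rw [Nat.card_congr (Subgroup.subgroupOfEquivOfLe hD's).toEquiv, hD',
        Subgroup.card_map_of_injective (MulAut.conj g).injective]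
    have hzC : z ∈ C := ⟨S.le S.z_mem, Subgroup.mem_centralizer_singleton_iff.2 hzs.symm.eq⟩
    have hp : IsPGroup 2 (Subgroup.zpowers (⟨z, hzC⟩ : C)) := IsPGroup.of_card (n := 1) (by
      rw [Nat.card_zpowers, Subgroup.orderOf_mk, S.z_order, pow_one])
    obtain ⟨R', hR'⟩ := hp.exists_le_sylow
    obtain ⟨c, hc⟩ := MulAction.exists_smul_eq C R' R
    have hmem : c * ⟨z, hzC⟩ * c⁻¹ ∈ (R : Subgroup C) := by
      rw [← hc]
      exact Subgroup.smul_mem_pointwise_smul _ (MulAut.conj c) (R' : Subgroup C)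
        (hR' (Subgroup.mem_zpowers _))
    rw [← hReq, Subgroup.mem_subgroupOf] at hmem
    obtain ⟨d, hd, hdc⟩ := hmem
    have hdc' : g * d * g⁻¹ = (c : G) * z * (c : G)⁻¹ := hdc
    have hcs : Commute (c : G) s := Subgroup.mem_centralizer_singleton_iff.1 c.2.2
    -- `y` carries `(z, d)` to `(s, z)`
    set y := (c : G)⁻¹ * g with hy
    have hy1 : y * z * y⁻¹ = s := by
      calc y * z * y⁻¹ = (c : G)⁻¹ * (g * z * g⁻¹) * c := by rw [hy]; group
        _ = s := by rw [hg, mul_assoc, ← hcs.eq, inv_mul_cancel_left]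
    have hy2 : y * d * y⁻¹ = z := by
      calc y * d * y⁻¹ = (c : G)⁻¹ * (g * d * g⁻¹) * c := by rw [hy]; group
        _ = z := by rw [hdc']; group
    obtain ⟨j, rfl⟩ : ∃ j : ℤ, d = r ^ j * s := by
      have hd2 : d * d = 1 := by
        apply (MulAut.conj y).injective
        rw [map_mul, MulAut.conj_apply, hy2, hz2, map_one]
      have hd1 : d ≠ 1 := fun e => ne_one_of_invol S.z_order (by
        show z = 1
        rw [← hy2, e, mul_one, mul_inv_cancel])
      exact (S.invol_cases hd hd1 hd2).resolve_left fun e => hzne (by rw [← hy2, e, hy1])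
    -- `y q y⁻¹` fixes `s` and interchanges `z`, `z s`
    set x := y * q * y⁻¹ with hx
    have hxz : x * z * x⁻¹ = z * s := by
      conv_lhs => rw [← hy2]
      calc x * (y * (r ^ j * s) * y⁻¹) * x⁻¹ = y * (q * (r ^ j * s) * q⁻¹) * y⁻¹ := by
            rw [hx]; group
        _ = y * z * y⁻¹ * (y * (r ^ j * s) * y⁻¹) := by rw [hswap, conj_mul]
        _ = z * s := by rw [hy1, hy2, hzs.eq]
    have hxs : x * s * x⁻¹ = s := by
      conv_lhs => rw [← hy1]
      calc x * (y * z * y⁻¹) * x⁻¹ = y * (q * z * q⁻¹) * y⁻¹ := by rw [hx]; group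
        _ = s := by rw [hqz, hy1]
    have hyL : y ∈ L := mul_mem (inv_mem c.2.1) hgL
    have hxL : x ∈ L := mul_mem (mul_mem hyL (S.le hqD)) (inv_mem hyL)
    have hqs : q * s * q⁻¹ = z * s := by simpa using hswap 0
    refine finish (q * x) (mul_mem (S.le hqD) hxL) ?_ ?_
    · calc q * x * z * (q * x)⁻¹ = q * (x * z * x⁻¹) * q⁻¹ := by group
        _ = q * z * q⁻¹ * (q * s * q⁻¹) := by rw [hxz, conj_mul]
        _ = s := by rw [hqz, hqs, ← mul_assoc, hz2, one_mul]
    · calc q * x * s * (q * x)⁻¹ = q * (x * s * x⁻¹) * q⁻¹ := by group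
        _ = _ := by rw [hxs, hqs]
  · have hn : n = 2 := by have := S.even; have := S.pos; omega
    have hz' : z = r := by rw [hz, hn, Nat.div_self two_pos, pow_one]
    have hab : ∀ d ∈ D, d = 1 ∨ d = z ∨ d = s ∨ d = z * s := by
      intro d hd
      obtain ⟨j, hj⟩ := S.cases hd
      have hrj : r ^ j = 1 ∨ r ^ j = z := by
        refine S.rot_invol (zpow_mem (Subgroup.mem_zpowers r) j) ?_
        rw [← zpow_add, ← two_mul, zpow_mul, ← Nat.cast_ofNat, zpow_natCast, ← hn, ← S.ord,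
          pow_orderOf_eq_one, one_zpow]
      rcases hj with rfl | rfl <;> rcases hrj with e | e <;> rw [e] <;> simp
    have hcom : ∀ a ∈ D, ∀ b ∈ D, a * b = b * a := by
      intro a ha b hb
      have h1 : Commute a z := S.z_comm ha
      have h2 : Commute b z := S.z_comm hb
      rcases hab a ha with rfl | rfl | rfl | rfl
      · simp
      · exact h2.symm.eq
      all_goals
        rcases hab b hb with rfl | rfl | rfl | rfl
      all_goals first
        | simp
        | exact hzs.eq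
        | exact hzs.symm.eq
        | exact (hzs.mul_right (Commute.refl _)).eq
        | exact (hzs.mul_right (Commute.refl _)).symm.eq
        | exact ((Commute.refl z).mul_left hzs).eq
    obtain ⟨P, hP⟩ := S.exists_sylow
    have hmemP : ∀ x : L, x ∈ P ↔ (x : G) ∈ D := fun x => by
      show x ∈ (P : Subgroup L) ↔ _
      rw [hP]; rfl
    haveI : IsMulCommutative (P : Subgroup L) := ⟨⟨fun a b => Subtype.ext (Subtype.ext
      (hcom _ ((hmemP _).1 a.2) _ ((hmemP _).1 b.2)))⟩⟩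
    obtain ⟨v, hv, hve⟩ := P.conj_eq_normalizer_conj_of_mem (⟨z, S.le S.z_mem⟩ : L) ⟨g, hgL⟩⁻¹
      ((hmemP _).2 S.z_mem)
      ((hmemP _).2 (by
        rw [inv_inv]
        show g * z * g⁻¹ ∈ D
        rw [hg]; exact S.hs))
    rw [inv_inv] at hve
    have hve' : g * z * g⁻¹ = (v : G)⁻¹ * z * v := congrArg Subtype.val hve
    rw [hg] at hve'
    set m := (v : G)⁻¹ with hm
    have hmn : ∀ d ∈ D, m * d * m⁻¹ ∈ D := fun d hd => by
      have hi : v⁻¹ ∈ Subgroup.normalizer ((P : Subgroup L) : Set L) := inv_mem hv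
      have := (hmemP _).1 ((Subgroup.mem_normalizer_iff.1 hi ⟨d, S.le hd⟩).1 ((hmemP _).2 hd))
      simpa [hm] using this
    have hmz : m * z * m⁻¹ = s := by rw [hm, inv_inv]; exact hve'.symm
    refine finish m (inv_mem v.2) hmz ?_
    rcases hab _ (hmn s S.hs) with e | e | e | e
    · exact absurd (conj_eq_one_iff.1 e) S.s_ne_one
    · exfalso
      obtain ⟨m', m₂, hm', hm₂, he, ho, hk⟩ := exists_odd_two_parts m
      have hD : D.map (MulAut.conj m).toMonoidHom = D := Subgroup.eq_of_le_of_card_ge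
        (by rintro _ ⟨d, hd, rfl⟩; exact hmn d hd)
        (by rw [Subgroup.card_map_of_injective (MulAut.conj m).injective])
      have hmN : m ∈ Subgroup.normalizer (D : Set G) := Subgroup.mem_normalizer_fintype hmn
      have hm₂n : ∀ d ∈ D, m₂ * d * m₂⁻¹ ∈ D := fun d hd =>
        (Subgroup.mem_normalizer_iff.1 (Subgroup.zpowers_le.2 hmN hm₂) d).1 hd
      have hm₂D : m₂ ∈ D := S.mem_of_normalizing
        (Subgroup.zpowers_le.2 (inv_mem v.2) hm₂) hk hm₂n
      have hfix : ∀ d ∈ D, m * d * m⁻¹ = m' * d * m'⁻¹ := fun d hd => by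
        rw [he]
        calc m' * m₂ * d * (m' * m₂)⁻¹ = m' * (m₂ * d * m₂⁻¹) * m'⁻¹ := by group
          _ = _ := by rw [hcom m₂ hm₂D d hd, mul_inv_cancel_right]
      exact hzne (no_odd_swap ho ((hfix z S.z_mem).symm.trans hmz) ((hfix s S.hs).symm.trans e))
    · refine absurd ?_ hzne
      exact (MulAut.conj m).injective (hmz.trans e.symm)
    · exact e

end Gen

end CfsgLib.FourOnDihedral
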