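import Cfsg.Agent.Lib.FourOnDihedral.Dih
import Cfsg.Agent.Lib.Invol.GlaubermanZStar

/-!
# Elements centralising a dihedral Sylow 2-subgroup

No element centralising `z` and `s` squares to `z`, and an involution centralising `D` that
commutes with an involution interchanging the two classes of reflections acts on `L` as `1` or
`z`.
-/

set_option autoImplicit false
set_option maxHeartbeats 400000
set_option linter.style.haveILetI false
set_option linter.unusedSectionVars false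

namespace CfsgLib.FourOnDihedral

open CfsgLib.Invol

universe u

variable {G : Type u} [Group G] [Finite G] {L D : Subgroup G} {r s : G} {n : ℕ}

namespace Gen

/-- The elements of odd order centralising `z` and `s` form a subgroup complementing `⟨z, s⟩`. -/
theorem exists_odd_compl (S : Gen L D r s n) :
    ∃ K : Subgroup G,
      (∀ k ∈ K, Odd (orderOf k) ∧ k ∈ L ∧ Commute k (r ^ (n / 2)) ∧ Commute k s) ∧
      ∀ c ∈ L, Commute c (r ^ (n / 2)) → Commute c s →
        ∃ v k, k ∈ K ∧ (v = 1 ∨ v = r ^ (n / 2) ∨ v = s ∨ v = r ^ (n / 2) * s) ∧ c = v * k := by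
  classical
  have : Fact (Nat.Prime 2) := ⟨Nat.prime_two⟩
  set z := r ^ (n / 2) with hz
  set C := L ⊓ Subgroup.centralizer ({z, s} : Set G) with hC
  have hmem : ∀ c : C, (c : G) ∈ L ∧ Commute (c : G) z ∧ Commute (c : G) s := fun c =>
    ⟨c.2.1, (DihPairs.centralizer_pair_mem.1 c.2.2).1, (DihPairs.centralizer_pair_mem.1 c.2.2).2⟩
  obtain ⟨Q⟩ : Nonempty (Sylow 2 C) := inferInstance
  have htwo : ∀ q ∈ Q, ∃ k, orderOf (q : G) = 2 ^ k := fun q hq => by
    obtain ⟨k, hk⟩ := IsPGroup.iff_orderOf.1 Q.2 ⟨q, hq⟩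
    rw [Subgroup.orderOf_mk, ← Subgroup.orderOf_coe] at hk
    exact ⟨k, hk⟩
  have hQc : ∀ q ∈ Q, ∀ c : C, c * q = q * c := fun q hq c => by
    obtain ⟨-, hqz, hqs⟩ := hmem q
    obtain ⟨-, hcz, hcs⟩ := hmem c
    refine Subtype.ext ?_
    show Commute (c : G) (q : G)
    rcases S.four_central q.2.1 (htwo q hq) hqz hqs with e | e | e | e <;> rw [e]
    · exact Commute.one_right _
    · exact hcz
    · exact hcs
    · exact hcz.mul_right hcs
  have hnc : Subgroup.normalizer ((Q : Subgroup C) : Set C) ≤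
      Subgroup.centralizer ((Q : Subgroup C) : Set C) := fun c _ =>
    Subgroup.mem_centralizer_iff.2 fun q hq => (hQc q hq c).symm
  set K₀ := (MonoidHom.transferSylow Q hnc).ker with hK₀
  have hK₀odd : ∀ k ∈ K₀, Odd (orderOf k) := fun k hk => by
    rw [Nat.odd_iff]
    by_contra hne
    have h2 : 2 ∣ orderOf k := by omega
    have h3 := h2.trans (Subgroup.orderOf_dvd_natCard K₀ hk)
    rw [← (MonoidHom.ker_transferSylow_isComplement' Q hnc).index_eq_card] at h3
    exact Q.not_dvd_index h3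
  refine ⟨K₀.map C.subtype, ?_, fun c hcL hcz hcs => ?_⟩
  · rintro _ ⟨k, hk, rfl⟩
    exact ⟨by simpa [Subgroup.orderOf_coe] using hK₀odd k hk, hmem k⟩
  obtain ⟨c', c₂, hc', hc₂, he, hodd, hpow⟩ := exists_odd_two_parts c
  have hcC : c ∈ C := ⟨hcL, DihPairs.centralizer_pair_mem.2 ⟨hcz, hcs⟩⟩
  have hc'C : c' ∈ C := Subgroup.zpowers_le.2 hcC hc'
  have hc₂C : c₂ ∈ C := Subgroup.zpowers_le.2 hcC hc₂
  obtain ⟨a, ha⟩ := hc'
  obtain ⟨b, hb⟩ := hc₂
  refine ⟨c₂, c', ⟨⟨c', hc'C⟩, ?_, rfl⟩, ?_, ?_⟩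
  · show (⟨c', hc'C⟩ : C) ∈ (MonoidHom.transferSylow Q hnc).ker
    rw [MonoidHom.mem_ker]
    obtain ⟨k, hk⟩ := IsPGroup.iff_orderOf.1 Q.2 (MonoidHom.transferSylow Q hnc ⟨c', hc'C⟩)
    have hd : orderOf (MonoidHom.transferSylow Q hnc ⟨c', hc'C⟩) ∣ orderOf c' := by
      rw [← Subgroup.orderOf_mk c' hc'C]
      exact orderOf_map_dvd _ _
    exact orderOf_eq_one_iff.1 (Nat.eq_one_of_dvd_coprimes
      ((Nat.coprime_two_left.2 hodd).pow_left k) (hk ▸ dvd_rfl) hd)
  · exact S.four_central (hmem ⟨c₂, hc₂C⟩).1 hpow (hmem ⟨c₂, hc₂C⟩).2.1 (hmem ⟨c₂, hc₂C⟩).2.2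
  · rw [he, ← ha, ← hb]
    exact ((Commute.refl c).zpow_zpow a b).eq

theorem odd_eq_one {k : G} (hk : Odd (orderOf k)) (h2 : k * k = 1) : k = 1 := by
  obtain ⟨c, hc⟩ := mem_zpowers_sq hk
  rw [hc, h2, one_pow]

theorem zs_data (S : Gen L D r s n) :
    r ^ (n / 2) * r ^ (n / 2) = 1 ∧ Commute (r ^ (n / 2)) s ∧ r ^ (n / 2) * s ≠ 1 ∧
      r ^ (n / 2) * s * (r ^ (n / 2) * s) = 1 := by
  have hz2 := mul_self_eq_one S.z_order
  have hzs : Commute (r ^ (n / 2)) s := (S.z_comm S.hs).symm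
  refine ⟨hz2, hzs, fun e => S.refl_ne_one (n / 2 : ℕ) (by rw [zpow_natCast]; exact e), ?_⟩
  have := S.refl_sq (n / 2 : ℕ)
  rwa [zpow_natCast] at this

/-- No element centralising `z` and `s` squares to `z`. -/
theorem no_sq_z (S : Gen L D r s n) [L.Normal] (hsimp : IsSimpleGroup L)
    (hnc : ¬ IsMulCommutative L) {w : G} (hwz : Commute w (r ^ (n / 2))) (hws : Commute w s)
    (hsq : w * w = r ^ (n / 2)) : False := by
  obtain ⟨m, hmL, hmz, hms, hmzs⟩ := S.exists_cycle hsimp hnc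
  obtain ⟨K, hK, hdec⟩ := S.exists_odd_compl
  obtain ⟨hz2, hzs, hzs1, hzs2⟩ := S.zs_data
  set z := r ^ (n / 2)
  set f := MulAut.conj m with hf
  have hfz : f z = s := hmz
  have hfs : f s = z * s := hms
  have hfzs : f (z * s) = z := hmzs
  have hnz : Commute (f w) z := by
    have := (hwz.mul_right hws).map f
    rwa [hfzs] at this
  have hns : Commute (f w) s := by
    have := hwz.map f
    rwa [hfz] at this
  set c := w⁻¹ * f w with hcdef
  have hcL : c ∈ L := by
    have h1 := ‹L.Normal›.conj_mem m hmL w⁻¹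
    rw [show c = w⁻¹ * m * w⁻¹⁻¹ * m⁻¹ by rw [hcdef, hf, MulAut.conj_apply]; group]
    exact mul_mem h1 (inv_mem hmL)
  have hcz : Commute c z := hwz.inv_left.mul_left hnz
  have hcs : Commute c s := hws.inv_left.mul_left hns
  obtain ⟨v, k, hk, hv, hvk⟩ := hdec c hcL hcz hcs
  obtain ⟨hkodd, hkL, hkz, hks⟩ := hK k hk
  -- the conjugate of `k` is again in `K`
  set k' := w⁻¹ * k * w with hk'
  have hk'mem : k' ∈ K := by
    have hk'L : k' ∈ L := by
      have := ‹L.Normal›.conj_mem k hkL w⁻¹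
      rwa [inv_inv] at this
    have hk'z : Commute k' z := (hwz.inv_left.mul_left hkz).mul_left hwz
    have hk's : Commute k' s := (hws.inv_left.mul_left hks).mul_left hws
    obtain ⟨v', k'', hk'', hv', e⟩ := hdec k' hk'L hk'z hk's
    obtain ⟨-, -, hk''z, hk''s⟩ := hK k'' hk''
    have hodd' : Odd (orderOf k') := by
      rwa [hk', show w⁻¹ * k * w = w⁻¹ * k * w⁻¹⁻¹ by rw [inv_inv], orderOf_conj]
    have hv'2 : v' * v' = 1 := by
      rcases hv' with rfl | rfl | rfl | rfl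
      · exact mul_one 1
      · exact hz2
      · exact S.sq
      · exact hzs2
    have hc' : Commute k' v' := by
      rcases hv' with rfl | rfl | rfl | rfl
      · exact Commute.one_right _
      · exact hk'z
      · exact hk's
      · exact hk'z.mul_right hk's
    have hc'' : Commute k'' v' := by
      rcases hv' with rfl | rfl | rfl | rfl
      · exact Commute.one_right _
      · exact hk''z
      · exact hk''s
      · exact hk''z.mul_right hk''s
    have hkk : k' * k' = k'' * k'' := by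
      rw [e]
      calc v' * k'' * (v' * k'') = v' * (k'' * v') * k'' := by group
        _ = v' * v' * (k'' * k'') := by rw [hc''.eq]; group
        _ = _ := by rw [hv'2, one_mul]
    obtain ⟨i, hi⟩ := mem_zpowers_sq hodd'
    rw [hi, hkk]
    exact pow_mem (mul_mem hk'' hk'') i
  -- squaring `w c`
  have hsq' : w * c * (w * c) = s := by
    rw [hcdef, mul_inv_cancel_left, ← map_mul, hsq, hfz]
  have hvw : Commute v w := by
    rcases hv with rfl | rfl | rfl | rfl
    · exact Commute.one_left _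
    · exact hwz.symm
    · exact hws.symm
    · exact (hwz.mul_right hws).symm
  have hvk' : Commute v k := by
    rcases hv with rfl | rfl | rfl | rfl
    · exact Commute.one_left _
    · exact hkz.symm
    · exact hks.symm
    · exact (hkz.mul_right hks).symm
  have hv2 : v * v = 1 := by
    rcases hv with rfl | rfl | rfl | rfl
    · exact mul_one 1
    · exact hz2
    · exact S.sq
    · exact hzs2
  have e : z * (k' * k) = s := by
    calc z * (k' * k) = w * k * (w * k) := by rw [← hsq, hk']; group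
      _ = w * k * (w * k) * (v * v) := by rw [hv2, mul_one]
      _ = w * c * (w * c) := by
        rw [hvk]
        have h1 : Commute v (w * k) := hvw.mul_right hvk'
        calc w * k * (w * k) * (v * v) = w * k * ((w * k) * v) * v := by group
          _ = w * k * (v * (w * k)) * v := by rw [h1.eq]
          _ = w * (k * v) * (w * (k * v)) := by group
          _ = _ := by rw [hvk'.eq]
      _ = s := hsq'
  have hkk : z * s = k' * k := by
    rw [← e, ← mul_assoc, hz2, one_mul]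
  obtain ⟨hodd, -⟩ := hK _ (mul_mem hk'mem hk)
  rw [← hkk] at hodd
  exact hzs1 (odd_eq_one hodd hzs2)

/-- An involution centralising `D` and commuting with `a` acts as `1` or `z`, or lies in `L`. -/
theorem inner_of_centralizing (S : Gen L D r s n) [L.Normal] (hsimp : IsSimpleGroup L)
    (hnc : ¬ IsMulCommutative L) {a w : G} {i : ℤ} (ha : a * a = 1)
    (har : a * r * a⁻¹ = r⁻¹) (has : a * s * a⁻¹ = r ^ i * s) (hi : Odd i)
    (hw2 : w * w = 1) (hwD : ∀ d ∈ D, Commute w d) (haw : Commute a w) :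
    w ∈ L ∨ ∃ c, (c = 1 ∨ c = r ^ (n / 2)) ∧ ∀ l ∈ L, Commute (w * c) l := by
  classical
  have : Fact (Nat.Prime 2) := ⟨Nat.prime_two⟩
  by_cases hwL : w ∈ L
  · exact Or.inl hwL
  right
  obtain ⟨m, hmL, hmz, hms, hmzs⟩ := S.exists_cycle hsimp hnc
  obtain ⟨K, hK, hdec⟩ := S.exists_odd_compl
  obtain ⟨hz2, hzs, hzs1, hzs2⟩ := S.zs_data
  set z := r ^ (n / 2) with hz
  have hzne : z ≠ s := fun e => S.not_mem (e ▸ pow_mem (Subgroup.mem_zpowers r) _)
  have hzD : z ∈ D := S.z_mem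
  have hwz : Commute w z := hwD z hzD
  have hws : Commute w s := hwD s S.hs
  have haz : a * z * a⁻¹ = z := by
    have h1 := conj_zpow_of_inverts har ((n / 2 : ℕ) : ℤ)
    rwa [zpow_natCast, zpow_neg, zpow_natCast, ← hz, inv_eq_self S.z_order] at h1
  set V : G → Prop := fun v => v = 1 ∨ v = z ∨ v = s ∨ v = z * s with hV
  have hV2 : ∀ v, V v → v * v = 1 := by
    rintro v (rfl | rfl | rfl | rfl)
    · exact mul_one 1
    · exact hz2
    · exact S.sq
    · exact hzs2
  have hVc : ∀ v x, V v → Commute x z → Commute x s → Commute x v := by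
    rintro v x (rfl | rfl | rfl | rfl) h1 h2
    · exact Commute.one_right _
    · exact h1
    · exact h2
    · exact h1.mul_right h2
  have hVK : ∀ v, V v → v ∈ K → v = 1 := fun v hv hk => odd_eq_one (hK v hk).1 (hV2 v hv)
  have hVm : ∀ v, V v → v ∈ D := by
    rintro v (rfl | rfl | rfl | rfl)
    · exact one_mem _
    · exact hzD
    · exact S.hs
    · exact mul_mem hzD S.hs
  -- a conjugator of `w` into `w V`
  set f := MulAut.conj m with hf
  have hnz : Commute (f w) z := by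
    have := (hwz.mul_right hws).map f
    rwa [show f (z * s) = z from hmzs] at this
  have hns : Commute (f w) s := by
    have := hwz.map f
    rwa [show f z = s from hmz] at this
  set c := w⁻¹ * f w with hcdef
  have hcL : c ∈ L := by
    rw [show c = w⁻¹ * m * w⁻¹⁻¹ * m⁻¹ by rw [hcdef, hf, MulAut.conj_apply]; group]
    exact mul_mem (‹L.Normal›.conj_mem m hmL w⁻¹) (inv_mem hmL)
  obtain ⟨v, k, hk, hv, hvk⟩ := hdec c hcL (hwz.inv_left.mul_left hnz) (hws.inv_left.mul_left hns)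
  obtain ⟨hkodd, hkL, hkz, hks⟩ := hK k hk
  have hvw : Commute w v := hVc v w hv hwz hws
  have hkv : Commute k v := hVc v k hv hkz hks
  have hwk : w * k * (w * k) = 1 := by
    have h1 : f w * f w = 1 := by rw [← map_mul, hw2, map_one]
    rw [show f w = w * (v * k) by rw [← hvk, hcdef, mul_inv_cancel_left]] at h1
    calc w * k * (w * k) = w * k * (w * k) * (v * v) := by rw [hV2 v hv, mul_one]
      _ = w * k * ((w * k) * v) * v := by group
      _ = w * k * (v * (w * k)) * v := by rw [(hvw.mul_left hkv).eq]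
      _ = w * (k * v) * (w * (k * v)) := by group
      _ = _ := by rw [hkv.eq]; exact h1
  obtain ⟨e, he⟩ := mem_zpowers_sq hkodd
  set p := k ^ e with hp
  have hpk : p * p = k := by rw [hp, ← (Commute.refl k).mul_pow, ← he]
  have hpw : w * p * w = p⁻¹ := by
    have h1 : w * k * w⁻¹ = k⁻¹ := by
      rw [inv_eq_of_mul_eq_one_right hw2, eq_inv_iff_mul_eq_one]
      rw [show w * k * w * k = w * k * (w * k) by group]; exact hwk
    have h2 := conj_zpow_of_inverts h1 (e : ℤ)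
    rw [zpow_natCast, zpow_neg, zpow_natCast, inv_eq_of_mul_eq_one_right hw2, ← hp] at h2
    exact h2
  have hpK : p ∈ K := pow_mem hk e
  obtain ⟨-, hpL, hpz, hps⟩ := hK p hpK
  set m₁ := p * m with hm₁
  have hm₁L : m₁ ∈ L := mul_mem hpL hmL
  have hact : ∀ x y, m * x * m⁻¹ = y → Commute p y → m₁ * x * m₁⁻¹ = y := by
    intro x y h1 h2
    calc m₁ * x * m₁⁻¹ = p * (m * x * m⁻¹) * p⁻¹ := by rw [hm₁]; group
      _ = y := by rw [h1, h2.eq, mul_inv_cancel_right]
  have h1z : m₁ * z * m₁⁻¹ = s := hact _ _ hmz hps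
  have h1s : m₁ * s * m₁⁻¹ = z * s := hact _ _ hms (hpz.mul_right hps)
  have h1zs : m₁ * (z * s) * m₁⁻¹ = z := hact _ _ hmzs hpz
  have h1w : m₁ * w * m₁⁻¹ = w * v := by
    have hfw : m * w * m⁻¹ = w * (v * k) := by
      rw [← hvk, hcdef, hf, MulAut.conj_apply, mul_inv_cancel_left]
    have hpv : Commute p v := hVc v p hv hpz hps
    have hpw' : p * w = w * p⁻¹ := by
      calc p * w = w * w * p * w := by rw [hw2, one_mul]
        _ = w * (w * p * w) := by group
        _ = _ := by rw [hpw]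
    calc m₁ * w * m₁⁻¹ = p * (m * w * m⁻¹) * p⁻¹ := by rw [hm₁]; group
      _ = p * w * (v * k) * p⁻¹ := by rw [hfw]; group
      _ = w * (p⁻¹ * v) * (k * p⁻¹) := by rw [hpw']; group
      _ = w * v := by
        rw [hpv.inv_left.eq, show k * p⁻¹ = p by rw [← hpk, mul_inv_cancel_right]]; group
  -- the fixed point in `w V`
  obtain ⟨v₀, hv₀, hfix⟩ : ∃ v₀, V v₀ ∧ m₁ * (w * v₀) * m₁⁻¹ = w * v₀ := by
    have key : ∀ v₀, m₁ * v₀ * m₁⁻¹ = v * v₀ → m₁ * (w * v₀) * m₁⁻¹ = w * v₀ := fun v₀ h0 => by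
      rw [← conj_mul, h1w, h0, ← mul_assoc, mul_assoc w v v, hV2 v hv, mul_one]
    rcases hv with e | e | e | e
    · exact ⟨1, Or.inl rfl, key 1 (by rw [e]; group)⟩
    · refine ⟨s, Or.inr (Or.inr (Or.inl rfl)), key s ?_⟩
      rw [h1s, e]
    · refine ⟨z * s, Or.inr (Or.inr (Or.inr rfl)), key _ ?_⟩
      rw [h1zs, e, hzs.eq, ← mul_assoc, S.sq, one_mul]
    · refine ⟨z, Or.inr (Or.inl rfl), key z ?_⟩
      rw [h1z, e, hzs.eq, mul_assoc, hz2, mul_one]
  -- an element interchanging `s` and `z s`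
  obtain ⟨u, huw, huz, hus, huL⟩ : ∃ u : G, Commute u w ∧ u * z * u⁻¹ = z ∧
      u * s * u⁻¹ = z * s ∧ (u ∈ D ∨ u = a) := by
    obtain ⟨e, he, hne⟩ := S.two_pow
    rcases Nat.lt_or_ge e 2 with h' | h'
    · have hn : n = 2 := by rw [hne, show e = 1 by omega, pow_one]
      refine ⟨a, haw, haz, ?_, Or.inr rfl⟩
      have hzr : z = r := by rw [hz, hn, Nat.div_self two_pos, pow_one]
      rw [has, hzr]
      congr 1
      obtain ⟨c, rfl⟩ := hi
      rw [← zpow_one r, ← zpow_mul, ← orderOf_dvd_sub_iff_zpow_eq_zpow, S.ord, hn]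
      exact ⟨c, by push_cast; ring⟩
    · have h4 : 4 ∣ n := by
        obtain ⟨e', rfl⟩ : ∃ e', e = 2 + e' := ⟨e - 2, by omega⟩
        exact ⟨2 ^ e', by rw [hne, pow_add]; norm_num⟩
      have hqD : r ^ (n / 4) ∈ D := pow_mem S.hr _
      refine ⟨r ^ (n / 4), (hwD _ hqD).symm, ?_, ?_, Or.inl hqD⟩
      · rw [(S.z_comm hqD).eq, mul_inv_cancel_right]
      · have h1 := S.rot_conj ((n / 4 : ℕ) : ℤ) 0
        rw [zpow_zero, one_mul, zero_add, zpow_natCast] at h1
        rw [h1, hz, ← zpow_natCast r (n / 2)]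
        congr 2
        obtain ⟨c, rfl⟩ := h4
        omega
  -- the fixed point is `w` or `w z`
  have hv₀' : v₀ = 1 ∨ v₀ = z := by
    set m₂ := u * m₁ * u⁻¹ with hm₂
    have huzs : u * (z * s) * u⁻¹ = s := by
      rw [← conj_mul, huz, hus, ← mul_assoc, hz2, one_mul]
    have h2act : ∀ x y, u * x * u⁻¹ = y → m₂ * y * m₂⁻¹ = u * (m₁ * x * m₁⁻¹) * u⁻¹ := by
      intro x y hxy; rw [← hxy, hm₂]; group
    have h2z : m₂ * z * m₂⁻¹ = z * s := by rw [h2act _ _ huz, h1z, hus]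
    have h2s : m₂ * s * m₂⁻¹ = z := by rw [h2act _ _ huzs, h1zs, huz]
    have hm₂L : m₂ ∈ L := ‹L.Normal›.conj_mem m₁ hm₁L u
    set d := m₂ * m₁ with hd
    have hdz : Commute d z := mul_inv_eq_iff_eq_mul.1 (by
      calc d * z * d⁻¹ = m₂ * (m₁ * z * m₁⁻¹) * m₂⁻¹ := by rw [hd]; group
        _ = z := by rw [h1z, h2s])
    have hds : Commute d s := mul_inv_eq_iff_eq_mul.1 (by
      calc d * s * d⁻¹ = m₂ * (m₁ * s * m₁⁻¹) * m₂⁻¹ := by rw [hd]; group
        _ = m₂ * z * m₂⁻¹ * (m₂ * s * m₂⁻¹) := by rw [h1s, conj_mul]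
        _ = s := by
          rw [h2z, h2s, hzs.eq, mul_assoc, hz2, mul_one])
    set w₀ := w * v₀ with hw₀
    set w₀' := u * w₀ * u⁻¹ with hw₀'
    set v' := u * v₀ * u⁻¹ * v₀ with hv'
    have huv₀ : V (u * v₀ * u⁻¹) := by
      rcases hv₀ with e | e | e | e <;> rw [e]
      · exact Or.inl (by group)
      · exact Or.inr (Or.inl huz)
      · exact Or.inr (Or.inr (Or.inr hus))
      · exact Or.inr (Or.inr (Or.inl huzs))
    have hv'V : V v' := by
      rw [hv']
      rcases hv₀ with e | e | e | e <;> rw [e]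
      · exact Or.inl (by group)
      · exact Or.inl (by rw [huz, hz2])
      · exact Or.inr (Or.inl (by rw [hus, mul_assoc, S.sq, mul_one]))
      · refine Or.inr (Or.inl ?_)
        rw [huzs, hzs.eq, ← mul_assoc, S.sq, one_mul]
    have hw₀z : Commute w₀ z := hwz.mul_left (hVc v₀ z hv₀ (Commute.refl z) hzs).symm
    have hw₀s : Commute w₀ s := hws.mul_left (hVc v₀ s hv₀ hzs.symm (Commute.refl s)).symm
    have hw₀2 : w₀ * w₀ = 1 := by
      calc w * v₀ * (w * v₀) = w * (v₀ * w) * v₀ := by group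
        _ = w * w * (v₀ * v₀) := by rw [← (hVc v₀ w hv₀ hwz hws).eq]; group
        _ = 1 := by rw [hw2, hV2 v₀ hv₀, one_mul]
    have hrel : w₀' = w₀ * v' := by
      rw [hw₀', hw₀, ← conj_mul, huw.eq, mul_inv_cancel_right, hv', mul_assoc w v₀,
        ← (hVc _ v₀ huv₀ (hVc v₀ z hv₀ (Commute.refl z) hzs).symm
          (hVc v₀ s hv₀ hzs.symm (Commute.refl s)).symm).eq, ← mul_assoc v₀ v₀,
        hV2 v₀ hv₀, one_mul]
    have hfix2 : m₂ * w₀' * m₂⁻¹ = w₀' := by
      rw [hw₀', hm₂]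
      calc u * m₁ * u⁻¹ * (u * w₀ * u⁻¹) * (u * m₁ * u⁻¹)⁻¹ =
            u * (m₁ * w₀ * m₁⁻¹) * u⁻¹ := by group
        _ = _ := by rw [hfix]
    have hdw : d * w₀ * d⁻¹ = w₀ * (v' * (m₂ * v' * m₂⁻¹)) := by
      have h3 : m₂ * w₀ * m₂⁻¹ = w₀' * (m₂ * v' * m₂⁻¹) := by
        have h4 : w₀ = w₀' * v' := by rw [hrel, mul_assoc, hV2 v' hv'V, mul_one]
        conv_lhs => rw [h4]
        rw [← conj_mul, hfix2]
      calc d * w₀ * d⁻¹ = m₂ * (m₁ * w₀ * m₁⁻¹) * m₂⁻¹ := by rw [hd]; group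
        _ = _ := by rw [hfix, h3, hrel, mul_assoc]
    obtain ⟨y, x, hx, hy, hyx⟩ := hdec d (mul_mem hm₂L hm₁L) hdz hds
    obtain ⟨-, hxL, hxz, hxs⟩ := hK x hx
    have hx' : w₀ * x * w₀ ∈ K := by
      have hL' : w₀ * x * w₀ ∈ L := by
        have := ‹L.Normal›.conj_mem x hxL w₀
        rwa [inv_eq_of_mul_eq_one_right hw₀2] at this
      have hz' : Commute (w₀ * x * w₀) z := (hw₀z.mul_left hxz).mul_left hw₀z
      have hs' : Commute (w₀ * x * w₀) s := (hw₀s.mul_left hxs).mul_left hw₀s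
      obtain ⟨y', x', hx', hy', e⟩ := hdec _ hL' hz' hs'
      obtain ⟨-, -, hx'z, hx's⟩ := hK x' hx'
      have ho : Odd (orderOf (w₀ * x * w₀)) := by
        rw [show w₀ * x * w₀ = w₀ * x * w₀⁻¹ by rw [inv_eq_of_mul_eq_one_right hw₀2],
          orderOf_conj]
        exact (hK x hx).1
      obtain ⟨j, hj⟩ := mem_zpowers_sq ho
      rw [hj, e]
      rw [show y' * x' * (y' * x') = x' * x' by
        calc y' * x' * (y' * x') = y' * (x' * y') * x' := by group
          _ = y' * y' * (x' * x') := by rw [(hVc y' x' hy' hx'z hx's).eq]; group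
          _ = _ := by rw [hV2 y' hy', one_mul]]
      exact pow_mem (mul_mem hx' hx') j
    have hd' : d * w₀ * d⁻¹ = w₀ * (w₀ * x * w₀ * x⁻¹) := by
      have hyw : Commute y w₀ := (hVc y w₀ hy hw₀z hw₀s).symm
      have hyx' : Commute y x := (hVc y x hy hxz hxs).symm
      rw [hyx]
      calc y * x * w₀ * (y * x)⁻¹ = y * (x * w₀ * x⁻¹) * y⁻¹ := by group
        _ = x * w₀ * x⁻¹ := by
          rw [((hyx'.mul_right hyw).mul_right hyx'.inv_right).eq, mul_inv_cancel_right]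
        _ = w₀ * w₀ * x * w₀ * x⁻¹ := by rw [hw₀2, one_mul]
        _ = _ := by group
    have hKV : v' * (m₂ * v' * m₂⁻¹) ∈ K := by
      rw [mul_left_cancel (hdw.symm.trans hd')]
      exact mul_mem hx' (inv_mem hx)
    have hmv : V (v' * (m₂ * v' * m₂⁻¹)) ∧ (v' * (m₂ * v' * m₂⁻¹) = 1 → v' = 1) := by
      rcases hv'V with e | e | e | e <;> rw [e]
      · exact ⟨Or.inl (by group), fun _ => rfl⟩
      · rw [h2z, ← mul_assoc, hz2, one_mul]
        exact ⟨Or.inr (Or.inr (Or.inl rfl)), fun h' => absurd h' S.s_ne_one⟩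
      · rw [h2s, ← hzs.eq]
        exact ⟨Or.inr (Or.inr (Or.inr rfl)), fun h' => absurd h' hzs1⟩
      · rw [← conj_mul, h2z, h2s, show z * s * (z * s * z) = z by
          rw [← mul_assoc, hzs2, one_mul]]
        exact ⟨Or.inr (Or.inl rfl), fun h' => absurd h' (ne_one_of_invol S.z_order)⟩
    have hv'1 : v' = 1 := hmv.2 (hVK _ hmv.1 hKV)
    rcases hv₀ with e | e | e | e
    · exact Or.inl e
    · exact Or.inr e
    · rw [hv', e, hus, mul_assoc, S.sq, mul_one] at hv'1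
      exact absurd hv'1 (ne_one_of_invol S.z_order)
    · rw [hv', e, huzs, hzs.eq, ← mul_assoc, S.sq, one_mul] at hv'1
      exact absurd hv'1 (ne_one_of_invol S.z_order)
  -- the involution `w₁ = w v₀`
  refine ⟨v₀, hv₀', ?_⟩
  set w₁ := w * v₀ with hw₁
  have hv₀D : v₀ ∈ D := hVm v₀ hv₀
  have hv₀L : v₀ ∈ L := S.le hv₀D
  have hw₁L : w₁ ∉ L := fun hm => hwL ((L.mul_mem_cancel_right hv₀L).1 hm)
  have hw₁D : ∀ d ∈ D, Commute w₁ d := fun d hd => (hwD d hd).mul_left (by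
    rcases hv₀' with e | e <;> rw [e]
    · exact Commute.one_left d
    · exact (S.z_comm hd).symm)
  have hw₁2 : w₁ * w₁ = 1 := by
    calc w * v₀ * (w * v₀) = w * (v₀ * w) * v₀ := by group
      _ = w * w * (v₀ * v₀) := by rw [← (hVc v₀ w hv₀ hwz hws).eq]; group
      _ = 1 := by rw [hw2, hV2 v₀ hv₀, one_mul]
  have haw₁ : Commute a w₁ := haw.mul_right (by
    rcases hv₀' with e | e <;> rw [e]
    · exact Commute.one_right a
    · exact mul_inv_eq_iff_eq_mul.1 haz)
  have hm₁w : Commute m₁ w₁ := mul_inv_eq_iff_eq_mul.1 hfix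
  -- every involution of `D` is carried to `z` in the centraliser of `w₁`
  have hred : ∀ d ∈ D, d ≠ 1 → d * d = 1 → ∃ g ∈ L, Commute g w₁ ∧ g * z * g⁻¹ = d := by
    intro d hd hd1 hd2
    rcases S.invol_cases hd hd1 hd2 with rfl | ⟨j, rfl⟩
    · exact ⟨1, one_mem L, Commute.one_left _, by rw [one_mul, inv_one, mul_one, hz]⟩
    -- a representative of the class
    have hrot : ∀ k : ℤ, ∀ t g, g ∈ L → Commute g w₁ → g * z * g⁻¹ = t →
        ∃ g' ∈ L, Commute g' w₁ ∧ g' * z * g'⁻¹ = r ^ k * t * (r ^ k)⁻¹ := fun k t g hg hgw hgt =>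
      ⟨r ^ k * g, mul_mem (zpow_mem (S.le S.hr) k) hg,
        ((hw₁D _ (zpow_mem S.hr k)).symm).mul_left hgw, by rw [← hgt]; group⟩
    rcases Int.even_or_odd j with ⟨c, rfl⟩ | ⟨c, rfl⟩
    · obtain ⟨g', h1, h2, h3⟩ := hrot c s m₁ hm₁L hm₁w h1z
      refine ⟨g', h1, h2, h3.trans ?_⟩
      have := S.rot_conj c 0
      rw [zpow_zero, one_mul, zero_add] at this
      rw [this, two_mul]
    · obtain ⟨e, rfl⟩ := hi
      have hai : a⁻¹ = a := inv_eq_of_mul_eq_one_right ha
      obtain ⟨g', h1, h2, h3⟩ := hrot (c - e) (a * s * a⁻¹) (a * m₁ * a⁻¹)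
        (‹L.Normal›.conj_mem m₁ hm₁L a) ((haw₁.mul_left hm₁w).mul_left haw₁.inv_left) (by
          rw [← h1z]
          conv_lhs => arg 1; arg 2; rw [← haz]
          group)
      refine ⟨g', h1, h2, h3.trans ?_⟩
      rw [has, S.rot_conj]
      congr 2
      ring
  -- the group `L⟨w₁⟩`
  have AL : Adj L w₁ := ⟨fun x hx => ‹L.Normal›.conj_mem x hx w₁, hw₁2.symm ▸ one_mem L, hw₁L⟩
  have AD : Adj D w₁ := ⟨fun x hx => by rw [(hw₁D x hx).eq, mul_inv_cancel_right]; exact hx,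
    hw₁2.symm ▸ one_mem D, fun hm => hw₁L (S.le hm)⟩
  set X := adjoin AL with hX
  have hAX : adjoin AD ≤ X := fun x hx => hx.imp (fun h => S.le h) (fun h => S.le h)
  obtain ⟨k', hk'⟩ := S.pgroup.exists_card_eq
  have hADp : IsPGroup 2 (adjoin AD) := IsPGroup.of_card (n := k' + 1) (by
    rw [card_adjoin, hk', pow_succ']; )
  obtain ⟨P, hP⟩ := (hADp.comap_of_injective X.subtype Subtype.val_injective :
    IsPGroup 2 ((adjoin AD).subgroupOf X)).exists_le_sylow
  have hPeq : (adjoin AD).subgroupOf X = (P : Subgroup X) := by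
    refine Subgroup.eq_of_le_of_card_ge hP ?_
    set Q := (P : Subgroup X).map X.subtype with hQ
    have hQX : Q ≤ X := by rintro _ ⟨x, -, rfl⟩; exact x.2
    have h1 := S.maxi (L ⊓ Q) inf_le_left ((P.2.map _).to_le inf_le_right)
    have hidx : L.relIndex X = 2 := index_adjoin AL
    have h2 : (L.subgroupOf Q).index ≤ 2 := by
      show L.relIndex Q ≤ 2
      rw [← hidx]
      exact Subgroup.relIndex_le_of_le_right hQX (by rw [hidx]; norm_num)
    rw [Nat.card_congr (Subgroup.subgroupOfEquivOfLe hAX).toEquiv, card_adjoin,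
      ← Subgroup.card_map_of_injective X.subtype_injective, ← hQ,
      ← (L.subgroupOf Q).card_mul_index]
    have h3 : Nat.card (L.subgroupOf Q) = Nat.card (L ⊓ Q : Subgroup G) := by
      rw [← Subgroup.inf_subgroupOf_right]
      exact Nat.card_congr (Subgroup.subgroupOfEquivOfLe inf_le_right).toEquiv
    rw [h3, mul_comm 2]
    exact Nat.mul_le_mul h1 h2
  have hPmem : ∀ x : X, x ∈ P ↔ (x : G) ∈ D ∨ (x : G) * w₁ ∈ D := fun x => by
    show x ∈ (P : Subgroup X) ↔ _
    rw [← hPeq]; rfl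
  have hcentP : ∀ c ∈ D, (∀ d ∈ D, Commute c d) → ∀ p : X, p ∈ P → Commute (p : G) (w₁ * c) := by
    intro c hc hcd p hp
    rcases (hPmem p).1 hp with hp | hp
    · exact ((hw₁D _ hp).symm).mul_right (hcd _ hp).symm
    · have e : (p : G) = (p : G) * w₁ * w₁ := by rw [mul_assoc, hw₁2, mul_one]
      rw [e]
      exact (((hw₁D _ hp).symm).mul_right (hcd _ hp).symm).mul_left
        ((Commute.refl w₁).mul_right (hw₁D c hc))
  -- no fusion of `w₁` with `w₁ z`
  have hburn : ∀ g ∈ X, g * w₁ * g⁻¹ ≠ w₁ * z := by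
    intro g₀ hg₀ he
    have hw₁X : w₁ ∈ X := self_mem_adjoin AL
    have hzX : w₁ * z ∈ X := mul_mem hw₁X (le_adjoin AL (S.le hzD))
    obtain ⟨q, hq, hqe⟩ := P.conj_eq_normalizer_conj_of_mem_centralizer (⟨w₁, hw₁X⟩ : X)
      ⟨g₀, hg₀⟩⁻¹
      (Subgroup.mem_centralizer_iff.2 fun p hp => Subtype.ext (by
        have := hcentP 1 D.one_mem (fun d _ => Commute.one_left d) p hp
        rwa [mul_one] at this))
      (Subgroup.mem_centralizer_iff.2 fun p hp => Subtype.ext (by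
        show (p : G) * ((g₀⁻¹)⁻¹ * w₁ * g₀⁻¹) = (g₀⁻¹)⁻¹ * w₁ * g₀⁻¹ * (p : G)
        rw [inv_inv, he]
        exact hcentP z hzD (fun d hd => (S.z_comm hd).symm) p hp))
    have hqe' : (q : G)⁻¹ * w₁ * q = w₁ * z := by
      have h0 := congrArg Subtype.val hqe
      simp only [Subgroup.coe_mul, Subgroup.coe_inv, inv_inv, he] at h0
      exact h0.symm
    have hqn : ∀ d ∈ D, (q : G)⁻¹ * d * q ∈ D := by
      intro d hd
      have hi : q⁻¹ ∈ Subgroup.normalizer ((P : Subgroup X) : Set X) := inv_mem hq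
      have h0 := (hPmem _).1 ((Subgroup.mem_normalizer_iff.1 hi ⟨d, le_adjoin AL (S.le hd)⟩).1
        ((hPmem _).2 (Or.inl hd)))
      simp only [Subgroup.coe_mul, Subgroup.coe_inv, inv_inv] at h0
      refine h0.resolve_right fun h' => hw₁L ?_
      have hL' := ‹L.Normal›.conj_mem d (S.le hd) (q : G)⁻¹
      rw [inv_inv] at hL'
      exact (L.mul_mem_cancel_left hL').1 (S.le h')
    -- a conjugator in `L`
    obtain ⟨g, hgL, hge, hgn⟩ : ∃ g ∈ L, g * w₁ * g⁻¹ = w₁ * z ∧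
        ∀ d ∈ D, g * d * g⁻¹ ∈ D := by
      rcases (q⁻¹).2 with h' | h'
      · exact ⟨(q : G)⁻¹, by simpa using h', by rw [inv_inv]; exact hqe',
          fun d hd => by rw [inv_inv]; exact hqn d hd⟩
      · refine ⟨(q : G)⁻¹ * w₁, by simpa using h', ?_, fun d hd => ?_⟩
        · rw [← hqe']; group
        · rw [show (q : G)⁻¹ * w₁ * d * ((q : G)⁻¹ * w₁)⁻¹ =
            (q : G)⁻¹ * (w₁ * d * w₁⁻¹) * q by group, (hw₁D d hd).eq, mul_inv_cancel_right]
          exact hqn d hd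
    -- odd parts
    have hodd : ∀ g ∈ L, (∀ d ∈ D, g * d * g⁻¹ ∈ D) → ∃ g', g' ∈ L ∧ Odd (orderOf g') ∧
        (∀ d ∈ D, g' * d * g'⁻¹ ∈ D) ∧ g' * w₁ * g'⁻¹ = g * w₁ * g⁻¹ ∧
        g' * z * g'⁻¹ = g * z * g⁻¹ := by
      intro g hgL hgn
      obtain ⟨g', g₂, hg', hg₂, he, ho, hk⟩ := exists_odd_two_parts g
      have hgN : g ∈ Subgroup.normalizer (D : Set G) := Subgroup.mem_normalizer_fintype hgn
      have hg₂D : g₂ ∈ D := S.mem_of_normalizing (Subgroup.zpowers_le.2 hgL hg₂) hk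
        fun d hd => (Subgroup.mem_normalizer_iff.1 (Subgroup.zpowers_le.2 hgN hg₂) d).1 hd
      have key : ∀ x, Commute g₂ x → g' * x * g'⁻¹ = g * x * g⁻¹ := fun x hx => by
        rw [he]
        calc g' * x * g'⁻¹ = g' * (g₂ * x * g₂⁻¹) * g'⁻¹ := by rw [hx.eq, mul_inv_cancel_right]
          _ = _ := by group
      exact ⟨g', Subgroup.zpowers_le.2 hgL hg', ho,
        fun d hd => (Subgroup.mem_normalizer_iff.1 (Subgroup.zpowers_le.2 hgN hg') d).1 hd,
        key _ (hw₁D g₂ hg₂D).symm, key _ (S.z_comm hg₂D)⟩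
    have hz1 : z ≠ 1 := ne_one_of_invol S.z_order
    have hcase : ∀ g ∈ L, (∀ d ∈ D, g * d * g⁻¹ ∈ D) → g * z * g⁻¹ = z →
        g * w₁ * g⁻¹ ≠ w₁ * z := by
      intro g hgL hgn hgz hgw
      obtain ⟨g', -, ho, -, h1, h2⟩ := hodd g hgL hgn
      exact hz1 (no_odd_shift ho hz2 (h2.trans hgz) (h1.trans hgw))
    by_cases hgz : g * z * g⁻¹ = z
    · exact hcase g hgL hgn hgz hge
    -- the four group
    have hn2 : n = 2 := by
      obtain ⟨e, he0, hne⟩ := S.two_pow
      rcases Nat.lt_or_ge e 2 with h' | h'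
      · rw [hne, show e = 1 by omega, pow_one]
      exfalso
      have hn4 : 2 < n := by
        rw [hne]
        calc 2 < 2 ^ 2 := by norm_num
          _ ≤ 2 ^ e := Nat.pow_le_pow_right two_pos h'
      have hgr : g * r * g⁻¹ ∈ Subgroup.zpowers r := by
        obtain ⟨j, hj | hj⟩ := S.cases (hgn r S.hr)
        · rw [hj]; exact zpow_mem (Subgroup.mem_zpowers r) j
        · exfalso
          have h2 : orderOf (g * r * g⁻¹) ∣ 2 := orderOf_dvd_of_pow_eq_one (by
            rw [hj, pow_two, S.refl_sq])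
          rw [orderOf_conj, S.ord] at h2
          have := Nat.le_of_dvd two_pos h2
          omega
      refine hgz ((S.rot_invol ?_ (by rw [conj_mul, hz2, mul_one, mul_inv_cancel])).resolve_left
        (fun e => hz1 (conj_eq_one_iff.1 e)))
      rw [hz, ← conj_pow]
      exact pow_mem hgr _
    have hzr : z = r := by rw [hz, hn2, Nat.div_self two_pos, pow_one]
    have hDV : ∀ d ∈ D, V d := by
      intro d hd
      obtain ⟨j, hj⟩ := S.cases hd
      have hrj : r ^ j = 1 ∨ r ^ j = z := by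
        refine S.rot_invol (zpow_mem (Subgroup.mem_zpowers r) j) ?_
        rw [← zpow_add, ← two_mul, zpow_mul, ← Nat.cast_ofNat, zpow_natCast, ← hn2, ← S.ord,
          pow_orderOf_eq_one, one_zpow]
      rcases hj with rfl | rfl <;> rcases hrj with e | e <;> rw [e]
      · exact Or.inl rfl
      · exact Or.inr (Or.inl rfl)
      · exact Or.inr (Or.inr (Or.inl (one_mul s)))
      · exact Or.inr (Or.inr (Or.inr rfl))
    have hm₁n : ∀ d ∈ D, m₁ * d * m₁⁻¹ ∈ D := fun d hd => by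
      rcases hDV d hd with rfl | rfl | rfl | rfl
      · simp
      · rw [h1z]; exact S.hs
      · rw [h1s]; exact mul_mem hzD S.hs
      · rw [h1zs]; exact hzD
    have hm₁i : ∀ d ∈ D, m₁⁻¹ * d * m₁ ∈ D := fun d hd => by
      have := (Subgroup.mem_normalizer_iff.1
        (inv_mem (Subgroup.mem_normalizer_fintype hm₁n)) d).1 hd
      rwa [inv_inv] at this
    -- a conjugator fixing `z` and moving `w₁` to `w₁ x`
    have hfour : ∀ g ∈ L, (∀ d ∈ D, g * d * g⁻¹ ∈ D) → g * z * g⁻¹ = z → ∀ x, V x →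
        g * w₁ * g⁻¹ = w₁ * x → x = 1 := by
      intro g hgL hgn hgz x hx hgx
      obtain ⟨g', hg'L, ho, hg'n, h1, h2⟩ := hodd g hgL hgn
      have h2' : g' * z * g'⁻¹ = z := h2.trans hgz
      have hs' : g' * s * g'⁻¹ = s := by
        rcases hDV _ (hg'n s S.hs) with e | e | e | e
        · exact absurd (conj_eq_one_iff.1 e) S.s_ne_one
        · exact absurd ((MulAut.conj g').injective (e.trans h2'.symm)) hzne.symm
        · exact e
        · exfalso
          have e' : g' * (z * s) * g'⁻¹ = s := by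
            rw [← conj_mul, h2', e, ← mul_assoc, hz2, one_mul]
          exact hz1 (right_eq_mul.1 (no_odd_swap ho e e'))
      have hx' : g' * x * g'⁻¹ = x := by
        rcases hx with rfl | rfl | rfl | rfl
        · group
        · exact h2'
        · exact hs'
        · rw [← conj_mul, h2', hs']
      exact no_odd_shift ho (hV2 x hx) hx' (h1.trans hgx)
    have hw₁i : m₁⁻¹ * w₁ * m₁ = w₁ := by
      rw [mul_assoc, ← hm₁w.eq, inv_mul_cancel_left]
    have hzi : m₁⁻¹ * z * m₁ = z * s := by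
      calc m₁⁻¹ * z * m₁ = m₁⁻¹ * (m₁ * (z * s) * m₁⁻¹) * m₁ := by rw [h1zs]
        _ = z * s := by group
    have hsi : m₁⁻¹ * s * m₁ = z := by
      calc m₁⁻¹ * s * m₁ = m₁⁻¹ * (m₁ * z * m₁⁻¹) * m₁ := by rw [h1z]
        _ = z := by group
    have hconj : ∀ g, g * w₁ * g⁻¹ = w₁ * z → m₁⁻¹ * g * w₁ * (m₁⁻¹ * g)⁻¹ = w₁ * (z * s) ∧
        m₁ * g * w₁ * (m₁ * g)⁻¹ = w₁ * s := fun g hg => by
      constructor
      · calc m₁⁻¹ * g * w₁ * (m₁⁻¹ * g)⁻¹ = m₁⁻¹ * (g * w₁ * g⁻¹) * m₁ := by group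
          _ = m₁⁻¹ * w₁ * m₁ * (m₁⁻¹ * z * m₁) := by rw [hg]; group
          _ = _ := by rw [hw₁i, hzi]
      · calc m₁ * g * w₁ * (m₁ * g)⁻¹ = m₁ * (g * w₁ * g⁻¹) * m₁⁻¹ := by group
          _ = m₁ * w₁ * m₁⁻¹ * (m₁ * z * m₁⁻¹) := by rw [hg]; group
          _ = _ := by rw [hm₁w.eq, mul_inv_cancel_right, h1z]
    rcases hDV _ (hgn z hzD) with e | e | e | e
    · exact hz1 (conj_eq_one_iff.1 e)
    · exact hgz e
    · refine hzs1 (hfour (m₁⁻¹ * g) (mul_mem (inv_mem hm₁L) hgL) (fun d hd => ?_) ?_ (z * s)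
        (Or.inr (Or.inr (Or.inr rfl))) (hconj g hge).1)
      · rw [show m₁⁻¹ * g * d * (m₁⁻¹ * g)⁻¹ = m₁⁻¹ * (g * d * g⁻¹) * m₁ by group]
        exact hm₁i _ (hgn d hd)
      · rw [show m₁⁻¹ * g * z * (m₁⁻¹ * g)⁻¹ = m₁⁻¹ * (g * z * g⁻¹) * m₁ by group, e, hsi]
    · refine S.s_ne_one (hfour (m₁ * g) (mul_mem hm₁L hgL) (fun d hd => ?_) ?_ s
        (Or.inr (Or.inr (Or.inl rfl))) (hconj g hge).2)
      · rw [show m₁ * g * d * (m₁ * g)⁻¹ = m₁ * (g * d * g⁻¹) * m₁⁻¹ by group]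
        exact hm₁n _ (hgn d hd)
      · rw [show m₁ * g * z * (m₁ * g)⁻¹ = m₁ * (g * z * g⁻¹) * m₁⁻¹ by group, e, h1zs]
  -- isolation and Z*
  obtain ⟨N, hNn, hNodd, hN⟩ := CfsgLib.Invol.zStar_sylow P ⟨w₁, self_mem_adjoin AL⟩
    (by rw [Subgroup.orderOf_mk]
        exact orderOf_eq_two (fun e => hw₁L (e ▸ one_mem L)) hw₁2)
    (fun g hg => by
      have hgL : (g : G) * w₁ * (g : G)⁻¹ ∉ L := fun hm => hw₁L (by
        have := ‹L.Normal›.conj_mem _ hm (g : G)⁻¹
        simpa [mul_assoc] using this)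
      rcases (hPmem _).1 hg with h' | h'
      · exact absurd (S.le h') hgL
      refine Subtype.ext ?_
      show (g : G) * w₁ * (g : G)⁻¹ = w₁
      by_contra hne
      set d := (g : G) * w₁ * (g : G)⁻¹ * w₁ with hd
      have hdD : d ∈ D := h'
      have hd1 : d ≠ 1 := fun e => hne (by
        rw [eq_inv_of_mul_eq_one_left e, inv_eq_of_mul_eq_one_right hw₁2])
      have hgw : (g : G) * w₁ * (g : G)⁻¹ = w₁ * d := by
        rw [(hw₁D d hdD).eq, hd, mul_assoc _ w₁ w₁, hw₁2, mul_one]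
      have hd2 : d * d = 1 := by
        have h1 : w₁ * d * (w₁ * d) = 1 := by
          rw [← hgw, conj_mul, hw₁2, mul_one, mul_inv_cancel]
        calc d * d = w₁ * w₁ * (d * d) := by rw [hw₁2, one_mul]
          _ = w₁ * (w₁ * d) * d := by group
          _ = w₁ * (d * w₁) * d := by rw [(hw₁D d hdD).eq]
          _ = w₁ * d * (w₁ * d) := by group
          _ = 1 := h1
      obtain ⟨l, hl, hlw, hle⟩ := hred d hdD hd1 hd2
      refine hburn (l⁻¹ * g) (mul_mem (inv_mem (le_adjoin AL hl)) g.2) ?_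
      calc l⁻¹ * g * w₁ * (l⁻¹ * (g : G))⁻¹ = l⁻¹ * ((g : G) * w₁ * (g : G)⁻¹) * l := by group
        _ = l⁻¹ * (w₁ * (l * z * l⁻¹)) * l := by rw [hgw, hle]
        _ = l⁻¹ * (w₁ * l) * z := by group
        _ = w₁ * z := by rw [← hlw.eq, inv_mul_cancel_left])
  intro l hl
  have hodd' : ∀ x ∈ N, (x : G) ∈ L := fun x hx => by
    by_contra hxL
    have hidx : (L.subgroupOf X).index = 2 := index_adjoin AL
    have key : ∀ j : ℕ, x ^ j ∈ L.subgroupOf X ↔ Even j := fun j => by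
      induction j with
      | zero => simp
      | succ j ih =>
        rw [pow_succ, Subgroup.mul_mem_iff_of_index_two hidx, ih, iff_false_right
          (show x ∉ L.subgroupOf X from hxL), Nat.even_add_one]
    exact Nat.not_even_iff_odd.2 (hNodd.of_dvd_nat (Subgroup.orderOf_dvd_natCard N hx))
      ((key _).1 (by rw [pow_orderOf_eq_one]; exact one_mem _))
  haveI := hsimp
  haveI hNL : ((N.map X.subtype).subgroupOf L).Normal := ⟨fun y hy g => by
    obtain ⟨x, hx, hxy⟩ := Subgroup.mem_subgroupOf.1 hy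
    refine Subgroup.mem_subgroupOf.2 ⟨⟨g, le_adjoin AL g.2⟩ * x * ⟨g, le_adjoin AL g.2⟩⁻¹,
      hNn.conj_mem x hx _, ?_⟩
    show (g : G) * (x : G) * (g : G)⁻¹ = _
    rw [show (x : G) = (y : G) from hxy]
    rfl⟩
  rcases hNL.eq_bot_or_eq_top with e | e
  · have hc : w₁ * l * w₁⁻¹ * l⁻¹ = 1 := by
      have hmem := hN ⟨l, le_adjoin AL hl⟩
      have hL' := hodd' _ hmem
      have h' : (⟨_, hL'⟩ : L) ∈ (N.map X.subtype).subgroupOf L :=
        Subgroup.mem_subgroupOf.2 ⟨_, hmem, rfl⟩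
      rw [e, Subgroup.mem_bot] at h'
      exact congrArg Subtype.val h'
    exact mul_inv_eq_iff_eq_mul.1 (mul_inv_eq_one.1 hc)
  · exfalso
    have h' : (⟨z, S.le hzD⟩ : L) ∈ (N.map X.subtype).subgroupOf L := e ▸ Subgroup.mem_top _
    obtain ⟨x, hx, hxz⟩ := Subgroup.mem_subgroupOf.1 h'
    have := hNodd.of_dvd_nat (Subgroup.orderOf_dvd_natCard N hx)
    rw [← Subgroup.orderOf_coe, show (x : G) = z from hxz, S.z_order] at this
    exact absurd this (by decide)

end Gen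

end CfsgLib.FourOnDihedral
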