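import Cfsg.Agent.Lib.FourOnDihedral.Core
import Mathlib.GroupTheory.SpecificGroups.Dihedral

/-!
# Choosing the generators of the Sylow 2-subgroup
-/

set_option autoImplicit false
set_option maxHeartbeats 400000
set_option linter.style.haveILetI false
set_option linter.unusedSectionVars false

namespace CfsgLib.FourOnDihedral

open CfsgLib.Invol

universe u

variable {G : Type u} [Group G] [Finite G]

/-- A cyclic Sylow 2-subgroup of `L ⊓ C(a)` excludes commuting involutions. -/
theorem noFour_of_cyclic (L : Subgroup G) (a : G)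
    (h : ∀ R : Sylow 2 ↥(L ⊓ Subgroup.centralizer ({a} : Set G)), IsCyclic R) : NoFour L a := by
  intro x hx y hy hox hoy hxy hxa hya
  have : Fact (Nat.Prime 2) := ⟨Nat.prime_two⟩
  set C := L ⊓ Subgroup.centralizer ({a} : Set G)
  have hxC : x ∈ C := ⟨hx, Subgroup.mem_centralizer_singleton_iff.2 hxa.eq⟩
  have hyC : y ∈ C := ⟨hy, Subgroup.mem_centralizer_singleton_iff.2 hya.eq⟩
  have hp : ∀ {w : G}, orderOf w = 2 → ∀ hw : w ∈ C,
      IsPGroup 2 (Subgroup.zpowers (⟨w, hw⟩ : C)) := fun ho hw =>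
    IsPGroup.of_card (n := 1) (by rw [Nat.card_zpowers, Subgroup.orderOf_mk, ho, pow_one])
  have hn : Subgroup.zpowers (⟨x, hxC⟩ : C) ≤
      Subgroup.normalizer ((Subgroup.zpowers (⟨y, hyC⟩ : C) : Subgroup C) : Set C) := by
    refine Subgroup.zpowers_le.2 (Subgroup.mem_normalizer_fintype fun d hd => ?_)
    obtain ⟨k, rfl⟩ := Subgroup.mem_zpowers_iff.1 hd
    have hc : Commute (⟨x, hxC⟩ : C) ⟨y, hyC⟩ := Subtype.ext hxy.eq
    rw [(hc.zpow_right k).eq, mul_inv_cancel_right]
    exact zpow_mem (Subgroup.mem_zpowers _) k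
  obtain ⟨R, hR⟩ := ((hp hox hxC).to_sup_of_normal_right' (hp hoy hyC) hn).exists_le_sylow
  haveI := h R
  obtain ⟨g, hg⟩ := IsCyclic.exists_generator (α := (R : Subgroup C))
  have key : ∀ w : (R : Subgroup C), orderOf w = 2 → w = g ^ (orderOf g / 2) := fun w hw =>
    eq_middle (hg w) hw
  have e := (key ⟨_, hR (Subgroup.mem_sup_left (Subgroup.mem_zpowers _))⟩
    (by rw [Subgroup.orderOf_mk, Subgroup.orderOf_mk, hox])).trans
    (key ⟨_, hR (Subgroup.mem_sup_right (Subgroup.mem_zpowers _))⟩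
      (by rw [Subgroup.orderOf_mk, Subgroup.orderOf_mk, hoy])).symm
  exact congrArg (fun w : (R : Subgroup C) => ((w : C) : G)) e

/-- The product of two commuting involutions centralises a simple normal subgroup with dihedral
Sylow 2-subgroups that is not generated by their centralisers. -/
theorem main (L : Subgroup G) [L.Normal] (hsimp : IsSimpleGroup L) (hnc : ¬ IsMulCommutative L)
    (hD : ∀ P : Sylow 2 L, ∃ n : ℕ, Nonempty (↥(P : Subgroup L) ≃* DihedralGroup n))
    {a b : G} (ha : a * a = 1) (hb : b * b = 1) (hab : Commute a b)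
    (hFa : NoFour L a) (hFb : NoFour L b)
    (N : Subgroup G) (h1 : ∀ x ∈ L, Commute x a → x ∈ N) (h2 : ∀ x ∈ L, Commute x b → x ∈ N)
    (hN : ¬ L ≤ N) : ∀ l ∈ L, Commute (a * b) l := by
  classical
  have : Fact (Nat.Prime 2) := ⟨Nat.prime_two⟩
  have hp : ∀ {w : G}, w * w = 1 → IsPGroup 2 (Subgroup.zpowers w) := fun {w} hw => by
    obtain ⟨k, -, hk⟩ := (Nat.dvd_prime_pow Nat.prime_two (m := 1)).1
      (orderOf_dvd_of_pow_eq_one (x := w) (by rw [pow_one, pow_two, hw]))
    exact IsPGroup.of_card (n := k) (by rw [Nat.card_zpowers, hk])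
  have hn : Subgroup.zpowers a ≤
      Subgroup.normalizer ((Subgroup.zpowers b : Subgroup G) : Set G) := by
    refine Subgroup.zpowers_le.2 (Subgroup.mem_normalizer_fintype fun d hd => ?_)
    obtain ⟨k, rfl⟩ := Subgroup.mem_zpowers_iff.1 hd
    rw [(hab.zpow_right k).eq, mul_inv_cancel_right]
    exact zpow_mem (Subgroup.mem_zpowers b) k
  obtain ⟨S₀, hS₀⟩ := ((hp ha).to_sup_of_normal_right' (hp hb) hn).exists_le_sylow
  set D := L ⊓ (S₀ : Subgroup G) with hDdef
  have hle : D ≤ L := inf_le_left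
  have hmaxi : ∀ Q : Subgroup G, Q ≤ L → IsPGroup 2 Q → Nat.card Q ≤ Nat.card D := by
    intro Q hQL hQ
    obtain ⟨R, hR⟩ := hQ.exists_le_sylow
    obtain ⟨g, hg⟩ := MulAction.exists_smul_eq G R S₀
    refine Nat.card_le_card_of_injective (fun x : Q => ⟨g * (x : G) * g⁻¹,
      Subgroup.mem_inf.2 ⟨‹L.Normal›.conj_mem _ (hQL x.2) g, ?_⟩⟩) fun x y e => ?_
    · rw [← hg]
      exact Subgroup.smul_mem_pointwise_smul (x : G) (MulAut.conj g) (R : Subgroup G) (hR x.2)
    · exact Subtype.ext (mul_left_cancel (mul_right_cancel (congrArg Subtype.val e)))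
  have hnorm : ∀ w ∈ (S₀ : Subgroup G), ∀ d ∈ D, w * d * w⁻¹ ∈ D := fun w hw d hd =>
    Subgroup.mem_inf.2 ⟨‹L.Normal›.conj_mem d (Subgroup.mem_inf.1 hd).1 w,
      mul_mem (mul_mem hw (Subgroup.mem_inf.1 hd).2) ((S₀ : Subgroup G).inv_mem hw)⟩
  have hna := hnorm a (hS₀ (Subgroup.mem_sup_left (Subgroup.mem_zpowers a)))
  have hnb := hnorm b (hS₀ (Subgroup.mem_sup_right (Subgroup.mem_zpowers b)))
  have hDp : IsPGroup 2 D := S₀.2.to_le inf_le_right
  obtain ⟨P, hP⟩ := (hDp.comap_of_injective L.subtype Subtype.val_injective :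
    IsPGroup 2 (D.subgroupOf L)).exists_le_sylow
  have hPeq : D.subgroupOf L = (P : Subgroup L) := by
    refine Subgroup.eq_of_le_of_card_ge hP ?_
    have h := hmaxi ((P : Subgroup L).map L.subtype) (by rintro _ ⟨x, -, rfl⟩; exact x.2) (P.2.map _)
    rwa [Subgroup.card_map_of_injective L.subtype_injective,
      ← Nat.card_congr (Subgroup.subgroupOfEquivOfLe hle).toEquiv] at h
  obtain ⟨n, ⟨e₀⟩⟩ := hD P
  let e : D ≃* DihedralGroup n :=
    ((Subgroup.subgroupOfEquivOfLe hle).symm.trans (MulEquiv.subgroupCongr hPeq)).trans e₀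
  have hcard : Nat.card D = 2 * n := by rw [Nat.card_congr e.toEquiv, DihedralGroup.nat_card]
  have hn0 : 0 < n := by
    rcases Nat.eq_zero_or_pos n with h | h
    · rw [h, mul_zero] at hcard
      exact absurd hcard Nat.card_pos.ne'
    · exact h
  obtain ⟨m, hm⟩ := hDp.exists_card_eq
  have hn1 : n ≠ 1 := by
    intro hn1
    rw [hn1, mul_one] at hcard
    have hPc : Nat.card (P : Subgroup L) = 2 := by
      rw [← hPeq, Nat.card_congr (Subgroup.subgroupOfEquivOfLe hle).toEquiv, hcard]
    haveI : IsCyclic (P : Subgroup L) := isCyclic_of_prime_card (p := 2) hPc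
    have hmin : (Nat.card L).minFac = 2 := by
      rw [Nat.minFac_eq_two_iff]
      exact hPc ▸ (P : Subgroup L).card_subgroup_dvd_card
    have hnc' := IsCyclic.normalizer_le_centralizer hmin (P := P) inferInstance
    haveI := hsimp
    rcases (inferInstance : (MonoidHom.transferSylow P hnc').ker.Normal).eq_bot_or_eq_top with h | h
    · have hi := (MonoidHom.ker_transferSylow_isComplement' P hnc').symm.index_eq_card
      rw [h, Subgroup.index_bot, hPc] at hi
      haveI : IsCyclic L := isCyclic_of_prime_card (p := 2) hi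
      exact hnc ⟨⟨fun x y => IsCyclic.commGroup.mul_comm x y⟩⟩
    · have hi := (MonoidHom.ker_transferSylow_isComplement' P hnc').symm.index_eq_card
      rw [h, Subgroup.index_top, hPc] at hi
      omega
  have htwo : ∃ k, 0 < k ∧ n = 2 ^ k := by
    rcases m with _ | m
    · omega
    refine ⟨m, Nat.pos_of_ne_zero fun h => ?_, ?_⟩
    · rw [h] at hm; rw [hm] at hcard; omega
    · rw [hm, pow_succ] at hcard; omega
  -- generators
  have gen : ∀ r s : D, orderOf r = n → s * s = 1 → s * r * s⁻¹ = r⁻¹ →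
      s ∉ Subgroup.zpowers r → Gen L D (r : G) (s : G) n := fun r s hr hs hi hnm =>
    { le := hle
      pgroup := hDp
      maxi := hmaxi
      hr := r.2
      hs := s.2
      ord := by rw [Subgroup.orderOf_coe, hr]
      sq := congrArg Subtype.val hs
      inv := congrArg Subtype.val hi
      not_mem := fun h => by
        obtain ⟨k, hk⟩ := Subgroup.mem_zpowers_iff.1 h
        exact hnm (Subgroup.mem_zpowers_iff.2 ⟨k, Subtype.ext (by simpa using hk)⟩)
      card := hcard
      two_pow := htwo }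
  have finish : ∀ r s : G, Gen L D r s n → a * r * a⁻¹ ∈ Subgroup.zpowers r →
      b * r * b⁻¹ ∈ Subgroup.zpowers r → ∀ l ∈ L, Commute (a * b) l := fun r s S h h' =>
    S.product_centralizes hsimp hnc ha hb hab hna hnb h h' hFa hFb N h1 h2 hN
  by_cases hn2 : n = 2
  · -- the four group
    have hD2 : ∀ d : D, d * d = 1 := by
      intro d
      apply e.injective
      rw [map_mul, map_one]
      have key : ∀ x : DihedralGroup 2, x * x = 1 := by decide
      subst hn2
      exact key _
    have hcomm : ∀ x y : D, x * y = y * x := fun x y => by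
      rw [eq_inv_of_mul_eq_one_left (hD2 (x * y)), mul_inv_rev,
        ← eq_inv_of_mul_eq_one_left (hD2 x), ← eq_inv_of_mul_eq_one_left (hD2 y)]
    have hord : ∀ d : D, d ≠ 1 → orderOf d = 2 := fun d hd => orderOf_eq_two hd (hD2 d)
    obtain ⟨r, hr1, hra⟩ : ∃ r : D, r ≠ 1 ∧ Commute a (r : G) := by
      haveI : Nontrivial D := by
        rw [← Finite.one_lt_card_iff_nontrivial, hcard]; omega
      obtain ⟨x, hx⟩ := exists_ne (1 : D)
      set y : D := ⟨a * x * a⁻¹, hna x x.2⟩ with hy
      by_cases hxy : y = x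
      · exact ⟨x, hx, mul_inv_eq_iff_eq_mul.1 (congrArg Subtype.val hxy)⟩
      refine ⟨x * y, fun h => hxy ?_, ?_⟩
      · rw [eq_inv_of_mul_eq_one_right h, ← eq_inv_of_mul_eq_one_left (hD2 x)]
      · apply mul_inv_eq_iff_eq_mul.1
        have hai : a⁻¹ = a := inv_eq_of_mul_eq_one_right ha
        calc a * ((x * y : D) : G) * a⁻¹ = a * x * a⁻¹ * (a * a * x * (a⁻¹ * a⁻¹)) := by
              rw [Subgroup.coe_mul, hy]; group
          _ = (y : G) * x := by
            rw [← mul_inv_rev, ha, inv_one, one_mul, mul_one]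
          _ = ((x * y : D) : G) := by rw [hcomm x y]; rfl
    obtain ⟨s, hs⟩ : ∃ s : D, s ∉ Subgroup.zpowers r := by
      by_contra hall
      push Not at hall
      have h := Subgroup.eq_top_iff' (Subgroup.zpowers r) |>.2 hall
      have h' := Nat.card_zpowers r
      rw [h, Subgroup.card_top, hcard, hord r hr1] at h'
      omega
    have hS := gen r s (by rw [hord r hr1, hn2]) (hD2 s)
      (by rw [hcomm s r, mul_inv_cancel_right, ← eq_inv_of_mul_eq_one_left (hD2 r)]) hs
    have har : a * (r : G) * a⁻¹ = r := by rw [hra.eq, mul_inv_cancel_right]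
    have hrG : orderOf (r : G) = 2 := by rw [Subgroup.orderOf_coe, hord r hr1]
    have hbr : b * (r : G) * b⁻¹ = r := by
      set r' : D := ⟨b * r * b⁻¹, hnb r r.2⟩
      exact (hFa r (hle r.2) _ (hle r'.2) hrG (by rw [orderOf_conj, hrG])
        (congrArg Subtype.val (hcomm r r')) hra.symm
        (((Commute.mul_left hab.symm hra.symm).mul_left hab.symm.inv_left))).symm
    exact finish _ _ hS (by rw [har]; exact Subgroup.mem_zpowers _)
      (by rw [hbr]; exact Subgroup.mem_zpowers _)
  · have hn3 : 2 < n := by omega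
    set r : D := e.symm (DihedralGroup.r 1) with hr
    set s : D := e.symm (DihedralGroup.sr 0) with hs
    have hS := gen r s (by rw [hr, MulEquiv.orderOf_eq, DihedralGroup.orderOf_r_one])
      (by rw [hs, ← map_mul, DihedralGroup.sr_mul_self, map_one])
      (by
        rw [hr, hs, ← map_inv, ← map_inv, ← map_mul, ← map_mul]
        congr 1
        simp)
      (by
        intro h
        obtain ⟨k, hk⟩ := Subgroup.mem_zpowers_iff.1 h
        rw [hr, hs, ← map_zpow] at hk
        have hk' := e.symm.injective hk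
        simp at hk')
    have hrot : ∀ w : G, (∀ d ∈ D, w * d * w⁻¹ ∈ D) →
        w * (r : G) * w⁻¹ ∈ Subgroup.zpowers (r : G) := by
      intro w hw
      obtain ⟨j, hj | hj⟩ := hS.cases (hw _ r.2)
      · rw [hj]; exact zpow_mem (Subgroup.mem_zpowers _) j
      · exfalso
        have h2 : orderOf (w * (r : G) * w⁻¹) ∣ 2 := orderOf_dvd_of_pow_eq_one (by
          rw [hj, pow_two, hS.refl_sq])
        rw [orderOf_conj, hS.ord] at h2
        have := Nat.le_of_dvd two_pos h2
        omega
    exact finish _ _ hS (hrot a hna) (hrot b hnb)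

end CfsgLib.FourOnDihedral
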